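import Cfsg.Agent.H685.AcdNab
import Cfsg.Agent.S4871
import Cfsg.Agent.H954.OutLinB
import Cfsg.Agent.H685.OutDegCl
import Cfsg.Agent.S0254
import Cfsg.Agent.FastGrp
import Cfsg.Agent.Prune
set_option linter.all false

section
prune_inst 0x7f00000000000000000000000000000000000000000000000000000000000000000000000000000000000000000000000000000000000000000000000000000000000000000000000000000000000000003fffffffffffffffffffffffffffbeffbdffffffff

-- part: H685/AcdMain
section
set_option linter.all false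
open scoped Cfsg.Agent.FastGrp

-- part: H685/AcdAb
section
/-!
# The abelian case
-/

set_option autoImplicit false
set_option linter.unusedSectionVars false

namespace Cfsg.Agent.H685.Acd

open Cfsg
open scoped ComplexConjugate commutatorElement
open Cfsg.Agent.Characters.Core
open Cfsg.Agent.OddOrderCharacters.NormalInduced (conjFn)
open Cfsg.Agent.OddOrderCharacters.IndRes (res)
open Cfsg.Agent.OddOrderCharacters.PF9.CliffGen (resTo irr_ind ind_inj isCharacter_resTo inertia
  mem_inertia le_inertia exists_extension)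

universe u v

/-- The numerical conditions on `(p, L)`. -/
structure Num (p L : ℕ) : Prop where
  two : 2 ≤ p
  pos : 1 ≤ L
  key : ∀ t, p ∣ t → 0 < t → 4 * L ≤ t * (L + 3)
  pow : ∀ n, p ∣ n → 0 < n → IsPrimePow (n + 1) → L ≤ n

theorem num_of_min {p ℓ : ℕ} (hp : p.Prime) (hℓ : 0 < ℓ)
    (hmin : ∀ m : ℕ, 0 < m → m < ℓ → ¬ IsPrimePow (m * p + 1)) : Num p (ℓ * p) := by
  have h2 := hp.two_le
  refine ⟨h2, Nat.mul_pos hℓ hp.pos, ?_, ?_⟩
  · intro t ht ht0
    have hpt : p ≤ t := Nat.le_of_dvd ht0 ht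
    by_cases h4 : 4 ≤ t
    · calc 4 * (ℓ * p) ≤ 4 * (ℓ * p + 3) := by omega
        _ ≤ t * (ℓ * p + 3) := Nat.mul_le_mul_right _ h4
    · have h5 : p = 2 ∨ p = 3 := by omega
      have hl1 : ℓ = 1 := by
        by_contra h
        refine hmin 1 one_pos (by omega) ?_
        rcases h5 with rfl | rfl
        · exact Nat.prime_three.isPrimePow
        · have : (1 * 3 + 1 : ℕ) = 2 ^ 2 := by norm_num
          rw [this]
          exact Nat.prime_two.isPrimePow.pow (by norm_num)
      subst hl1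
      rcases h5 with rfl | rfl
      · have : t = 2 := by
          obtain ⟨c, hc⟩ := ht
          omega
        subst this
        norm_num
      · have : t = 3 := by
          obtain ⟨c, hc⟩ := ht
          omega
        subst this
        norm_num
  · rintro n ⟨m, rfl⟩ hn hpow
    have hm : 0 < m := Nat.pos_of_mul_pos_left hn |> fun _ => by
      rcases Nat.eq_zero_or_pos m with h | h
      · rw [h, mul_zero] at hn
        exact absurd hn (lt_irrefl _)
      · exact h
    rw [mul_comm p m]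
    apply Nat.mul_le_mul_right
    by_contra h
    rw [mul_comm p m] at hpow
    exact hmin m hm (by omega) hpow

/-- The number of constituents of a restriction is at most the degree. -/
theorem card_constituents_le {G : Type u} [Group G] [Fintype G] (N : Subgroup G) [Fintype N]
    {χ : G → ℂ} (hχ : IsIrrCharacter G χ) :
    Nat.card {ψ : IrrCharacter N // classInner (res N χ) (ψ : N → ℂ) ≠ 0} ≤ charDegree χ := by
  classical
  have : Finite (IrrCharacter N) := finite_irr
  have := Fintype.ofFinite (IrrCharacter N)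
  rw [Nat.card_eq_fintype_card, Fintype.card_subtype]
  exact Cfsg.Agent.S4871.card_le_degree N hχ _ (fun ψ hψ => (Finset.mem_filter.1 hψ).2)

theorem charDegree_hom {G : Type u} [Group G] (f : G →* ℂˣ) :
    charDegree (fun g => (f g : ℂ)) = 1 :=
  Cfsg.Agent.Blocks.Basic.charDegree_of_eq (by simp)

theorem num_one {p L : ℕ} (hnum : Num p L) {t u b n : ℕ} (hpt : p ∣ t) (ht0 : 0 < t)
    (hu : 2 * u ≤ t) (hn : n ≤ u * b) : (L - 1) * n ≤ b * (t * (L + 1) - 2 * L) := by
  have hkey := hnum.key t hpt ht0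
  obtain ⟨l, rfl⟩ : ∃ l, L = l + 1 := ⟨L - 1, by have := hnum.pos; omega⟩
  rw [Nat.add_sub_cancel]
  have h2 : l * u ≤ t * (l + 1 + 1) - 2 * (l + 1) := by
    have h3 : l * (2 * u) ≤ l * t := Nat.mul_le_mul_left _ hu
    have h4 : 2 * (l * u) = l * (2 * u) := by ring
    have h5 : t * (l + 1 + 3) = l * t + 4 * t := by ring
    have h6 : t * (l + 1 + 1) = l * t + 2 * t := by ring
    omega
  calc l * n ≤ l * (u * b) := Nat.mul_le_mul_left _ hn
    _ = b * (l * u) := by ring
    _ ≤ _ := Nat.mul_le_mul_left _ h2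

theorem num_two {p L : ℕ} (hnum : Num p L) {t N X n : ℕ} (hpt : p ∣ t) (ht0 : 0 < t)
    (htN : t ∣ N) (hN0 : 0 < N) (hLN : L ≤ N) (hdc : N * n ≤ t * (t * X)) :
    (L - 1) * n ≤ X * (t * (L + 1) - 2 * L) := by
  have hkey := hnum.key t hpt ht0
  obtain ⟨j, hj⟩ := htN
  obtain ⟨l, rfl⟩ : ∃ l, L = l + 1 := ⟨L - 1, by have := hnum.pos; omega⟩
  rw [Nat.add_sub_cancel]
  have ht2 : 2 ≤ t := hnum.two.trans (Nat.le_of_dvd ht0 hpt)
  have hw : 2 * (l + 1) ≤ t * (l + 1 + 1) := Nat.mul_le_mul ht2 (Nat.le_succ _)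
  obtain ⟨w, hw'⟩ : ∃ w, t * (l + 1 + 1) = 2 * (l + 1) + w := ⟨_, (Nat.add_sub_cancel' hw).symm⟩
  have hweq : t * (l + 1 + 1) - 2 * (l + 1) = w := by omega
  rw [hweq]
  have hjw : l * t ≤ j * w := by
    have hj0 : j ≠ 0 := by
      rintro rfl
      rw [mul_zero] at hj
      omega
    have e1 : t * (l + 1 + 1) = l * t + 2 * t := by ring
    have e2 : t * (l + 1 + 3) = l * t + 4 * t := by ring
    rcases Nat.lt_or_ge 1 j with h2 | h2
    · calc l * t ≤ 2 * w := by omega
        _ ≤ j * w := Nat.mul_le_mul_right _ h2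
    · have hj1 : j = 1 := by omega
      subst hj1
      rw [mul_one] at hj
      rw [one_mul]
      omega
  have hfin : N * (l * n) ≤ N * (X * w) := by
    calc N * (l * n) = l * (N * n) := by ring
      _ ≤ l * (t * (t * X)) := Nat.mul_le_mul_left _ hdc
      _ = (t * X) * (l * t) := by ring
      _ ≤ (t * X) * (j * w) := Nat.mul_le_mul_left _ hjw
      _ = (t * j) * (X * w) := by ring
      _ = N * (X * w) := by rw [← hj]
  exact Nat.le_of_mul_le_mul_left hfin hN0

/-- Linear characters trivial on `T`, which does not contain the derived group. -/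
theorem two_mul_card_le {G : Type u} [Group G] [Finite G] (T : Subgroup G)
    (hnle : ¬ commutator G ≤ T) : 2 * Nat.card {f : G →* ℂˣ // ∀ t ∈ T, f t = 1} ≤ T.index := by
  have hfh := finite_hom G
  have ht0 : 0 < T.index := Nat.pos_of_ne_zero Subgroup.index_ne_zero_of_finite
  have h1 : Nat.card {f : G →* ℂˣ // ∀ t ∈ T, f t = 1} ≤ (T ⊔ commutator G).index := by
    refine le_trans ?_ (Cfsg.Agent.H705.StrongLin.card_hom_le (T ⊔ commutator G))
    refine Nat.card_le_card_of_injective (fun f : {f : G →* ℂˣ // ∀ t ∈ T, f t = 1} =>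
      (⟨f.1, ?_⟩ : {f : G →* ℂˣ // ∀ t ∈ T ⊔ commutator G, f t = 1})) ?_
    · intro x hx
      have h2 : T ⊔ commutator G ≤ f.1.ker :=
        sup_le (fun y hy => MonoidHom.mem_ker.2 (f.2 y hy))
          (Abelianization.commutator_subset_ker f.1)
      exact MonoidHom.mem_ker.1 (h2 hx)
    · intro f f' hff
      exact Subtype.ext (congrArg (fun x : {f : G →* ℂˣ // ∀ t ∈ T ⊔ commutator G,
        f t = 1} => x.1) hff)
  have h2 : T.relIndex (T ⊔ commutator G) * (T ⊔ commutator G).index = T.index :=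
    Subgroup.relIndex_mul_index le_sup_left
  have h3 : T.relIndex (T ⊔ commutator G) ≠ 1 := by
    rw [Ne, Subgroup.relIndex_eq_one]
    intro h4
    exact hnle (le_sup_right.trans h4)
  have h4 : T.relIndex (T ⊔ commutator G) ≠ 0 := by
    intro h5
    rw [h5, zero_mul] at h2
    omega
  calc 2 * Nat.card {f : G →* ℂˣ // ∀ t ∈ T, f t = 1} ≤ 2 * (T ⊔ commutator G).index :=
        Nat.mul_le_mul_left _ h1
    _ ≤ T.relIndex (T ⊔ commutator G) * (T ⊔ commutator G).index :=
      Nat.mul_le_mul_right _ (by omega)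
    _ = T.index := h2

/-- The inertia group of a linear character of `M`. -/
def TL {G : Type u} [Group G] (M : Subgroup G) [M.Normal] (lam : M →* ℂˣ) : Subgroup G :=
  inertia M (fun n => (lam n : ℂ))

/-- The irreducible characters of degree `t` over `lam`. -/
def BL {G : Type u} [Group G] [Fintype G] (M : Subgroup G) [Fintype M] (lam : M →* ℂˣ) (t : ℕ) :
    Type u :=
  {χ : IrrCharacter G //
    charDegree (χ : G → ℂ) = t ∧ classInner (res M χ) (fun n => (lam n : ℂ)) ≠ 0}

theorem card_BL_mul_le {G : Type u} [Group G] [Fintype G] (M : Subgroup G) [Fintype M]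
    (lam : M →* ℂˣ) {p L d : ℕ} (hd : p ∣ d) :
    Nat.card (BL M lam d) * (d * (L + 1) - 2 * L) ≤ W p L G := by
  unfold BL
  exact card_mul_le hd _

theorem card_X_mul_le {G : Type u} [Group G] [Fintype G] {p L d : ℕ} (hd : p ∣ d) :
    Nat.card {χ : IrrCharacter G // charDegree (χ : G → ℂ) = d ∧ True} *
      (d * (L + 1) - 2 * L) ≤ W p L G :=
  card_mul_le hd (fun _ => True)

/-- The double count. -/
theorem double_count {G : Type u} [Group G] [Fintype G] (M : Subgroup G) [Fintype M]
    {n t N : ℕ} (hN : Nat.card {lam : M →* ℂˣ // lam ≠ 1} = N)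
    (h : ∀ lam : M →* ℂˣ, lam ≠ 1 → n ≤ t * Nat.card (BL M lam t)) :
    N * n ≤ t * (t * Nat.card {χ : IrrCharacter G // charDegree (χ : G → ℂ) = t ∧ True}) := by
  classical
  have hfG : Finite (IrrCharacter G) := finite_irr
  have hfM := finite_hom M
  have hlin : ∀ lam : M →* ℂˣ, IsIrrCharacter M (fun n => (lam n : ℂ)) := fun lam =>
    Cfsg.Agent.Characters.Linear.isIrrCharacter_hom lam
  let X := {χ : IrrCharacter G // charDegree (χ : G → ℂ) = t ∧ True}
  let S := Σ lam : {lam : M →* ℂˣ // lam ≠ 1}, BL M lam.1 t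
  have hfB : ∀ lam, Finite (BL M lam t) := fun lam => by unfold BL; infer_instance
  have hfS : Finite S := inferInstance
  have h1 : Nat.card S ≤ t * Nat.card X := by
    let F : S → X := fun s => ⟨s.2.1, s.2.2.1, trivial⟩
    refine card_le_of_fiber F t fun χ => ?_
    refine le_trans ?_ ((card_constituents_le M χ.1.2).trans_eq χ.2.1)
    have : Finite {ψ : IrrCharacter M // classInner (res M χ.1) (ψ : M → ℂ) ≠ 0} := by
      have : Finite (IrrCharacter M) := finite_irr
      exact inferInstance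
    refine Nat.card_le_card_of_injective (fun s : {s : S // F s = χ} =>
      (⟨⟨fun n => (s.1.1.1 n : ℂ), hlin s.1.1.1⟩, ?_⟩ :
        {ψ : IrrCharacter M // classInner (res M χ.1) (ψ : M → ℂ) ≠ 0})) ?_
    · have h2 := s.1.2.2.2
      have h3 : s.1.2.1 = χ.1 := congrArg (fun x : X => x.1) s.2
      rw [h3] at h2
      exact h2
    · rintro ⟨⟨⟨l1, hl1⟩, ⟨χ1, h1⟩⟩, hs1⟩ ⟨⟨⟨l2, hl2⟩, ⟨χ2, h2⟩⟩, hs2⟩ h
      have e1 : l1 = l2 := by
        refine MonoidHom.ext fun g => Units.ext ?_
        have h3 := congrArg (fun x : {ψ : IrrCharacter M //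
          classInner (res M χ.1) (ψ : M → ℂ) ≠ 0} => (x.1 : M → ℂ)) h
        exact congrFun h3 g
      subst e1
      have e2 : χ1 = χ2 := by
        have e3 : χ1 = χ.1 := congrArg (fun x : X => x.1) hs1
        have e4 : χ2 = χ.1 := congrArg (fun x : X => x.1) hs2
        rw [e3, e4]
      subst e2
      rfl
  have h2 : N * n ≤ t * Nat.card S := by
    have := Fintype.ofFinite {lam : M →* ℂˣ // lam ≠ 1}
    have h4 : Nat.card S = ∑ lam : {lam : M →* ℂˣ // lam ≠ 1}, Nat.card (BL M lam.1 t) :=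
      Nat.card_sigma
    rw [h4, Finset.mul_sum, ← hN, Nat.card_eq_fintype_card, ← smul_eq_mul, ← Finset.card_univ,
      ← Finset.sum_const]
    exact Finset.sum_le_sum fun lam _ => h lam.1 lam.2
  exact h2.trans (Nat.mul_le_mul_left _ h1)

theorem abelian_case {G : Type u} [Group G] [Finite G] {p L : ℕ} [hp : Fact p.Prime]
    (hnum : Num p L) (P : Sylow p G) (hP : ¬ (P : Subgroup G).Normal) (M : Subgroup G)
    [hM : M.Normal] (hM0 : M ≠ ⊥) (hMG : M ≤ commutator G)
    (hmin : ∀ K : Subgroup G, K.Normal → K ≤ M → K = ⊥ ∨ K = M)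
    (hab : ∀ a ∈ M, ∀ b ∈ M, a * b = b * a)
    (hF : M ⊔ Subgroup.normalizer ((P : Subgroup G) : Set G) = ⊤) :
    (L - 1) * Nat.card (G →* ℂˣ) ≤ W p L G := by
  classical
  have := Fintype.ofFinite G
  have := Fintype.ofFinite M
  have hfG : Finite (IrrCharacter G) := finite_irr
  have hfh := finite_hom G
  have hfM := finite_hom M
  obtain ⟨hcompl, hcomm⟩ := abelian_struct P hP M hmin hab hF
  -- the inertia groups
  let T : (M →* ℂˣ) → Subgroup G := TL M
  have hT : ∀ lam g, g ∈ T lam ↔ conjFn M (fun n => (lam n : ℂ)) g = fun n => (lam n : ℂ) :=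
    fun lam g => Iff.rfl
  have hlin : ∀ lam : M →* ℂˣ, IsIrrCharacter M (fun n => (lam n : ℂ)) := fun lam =>
    Cfsg.Agent.Characters.Linear.isIrrCharacter_hom lam
  have hMT : ∀ lam, M ≤ T lam := fun lam => le_inertia (isIrr_isClassFunction (hlin lam))
  have hTel : ∀ lam g, g ∈ T lam → ∀ m : M, lam ⟨g * m * g⁻¹, hM.conj_mem m m.2 g⟩ = lam m := by
    intro lam g hg m
    exact Units.ext (congrFun ((hT lam g).1 hg) m)
  -- a subgroup acting trivially on `lam` has its commutators in the kernel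
  have hker : ∀ (lam : M →* ℂˣ) (A : Subgroup G), A ≤ T lam →
      ∀ x (hx : x ∈ ⁅M, A⁆), ∀ hx' : x ∈ M, lam ⟨x, hx'⟩ = 1 := by
    intro lam A hA x hx hx'
    have h1 : ⁅M, A⁆ ≤ lam.ker.map M.subtype := by
      rw [Subgroup.commutator_le]
      intro m hm a ha
      have h2 : m * a * m⁻¹ * a⁻¹ = m * (a * m⁻¹ * a⁻¹) := by group
      rw [commutatorElement_def, h2]
      refine ⟨⟨m, hm⟩ * ⟨a * m⁻¹ * a⁻¹, hM.conj_mem _ (M.inv_mem hm) a⟩, ?_, rfl⟩
      rw [SetLike.mem_coe, MonoidHom.mem_ker, map_mul]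
      have h3 := hTel lam a (hA ha) (⟨m, hm⟩⁻¹ : M)
      have h4 : (⟨a * m⁻¹ * a⁻¹, hM.conj_mem _ (M.inv_mem hm) a⟩ : M) =
          ⟨a * ((⟨m, hm⟩⁻¹ : M) : G) * a⁻¹, hM.conj_mem _ (⟨m, hm⟩⁻¹ : M).2 a⟩ := rfl
      rw [h4, h3, map_inv, mul_inv_cancel]
    obtain ⟨y, hy, hyx⟩ := h1 hx
    have h2 : y = ⟨x, hx'⟩ := Subtype.ext hyx
    rw [← h2]
    exact hy
  have hpT : ∀ lam : M →* ℂˣ, lam ≠ 1 → p ∣ (T lam).index := by
    intro lam hlam
    by_contra hcon
    apply hlam
    have hPT : (P : Subgroup G) ≤ T lam := by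
      intro x hx
      by_contra hxT
      refine hcon (dvd_index P (hMT lam) hF hx (g := 1) ?_)
      simpa using hxT
    ext m
    have h1 := hker lam P hPT m (by rw [hcomm]; exact m.2) m.2
    rw [show (⟨(m : G), m.2⟩ : M) = m from rfl] at h1
    rw [h1]
    rfl
  -- the count
  have hcount : ∀ lam, Nat.card (G →* ℂˣ) ≤
      Nat.card {f : G →* ℂˣ // ∀ t ∈ T lam, f t = 1} * Nat.card (BL M lam (T lam).index) := by
    intro lam
    have := Fintype.ofFinite (T lam)
    obtain ⟨F, hF1, -⟩ := exists_extension (N := M) (T := T lam) hcompl hF (hMT lam) (lam := lam)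
      (fun g hg => hg) (1 : ↥(T lam ⊓ Subgroup.normalizer ((P : Subgroup G) : Set G)) →* ℂˣ)
    have hres : resTo (hMT lam) (fun t => (F t : ℂ)) = fun n => (lam n : ℂ) := by
      funext n
      show ((F ⟨n, hMT lam n.2⟩ : ℂˣ) : ℂ) = _
      rw [hF1]
    have h1 := count M hMG (hlin lam) (T lam) (hT lam) (hMT lam)
      (Cfsg.Agent.Characters.Linear.isIrrCharacter_hom F) (m := 1) (d := 1)
      (by rw [hres, classInner_irr_self (hlin lam)]; exact one_ne_zero)
      (by rw [hres, classInner_irr_self (hlin lam), Nat.cast_one]) (charDegree_hom F)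
    rw [mul_one, mul_one] at h1
    exact h1
  by_cases hA : ∃ lam : M →* ℂˣ, lam ≠ 1 ∧ ¬ commutator G ≤ T lam
  · obtain ⟨lam, hlam, hnle⟩ := hA
    have hpt : p ∣ (T lam).index := hpT lam hlam
    have ht0 : 0 < (T lam).index := Nat.pos_of_ne_zero Subgroup.index_ne_zero_of_finite
    have h1 := num_one hnum hpt ht0 (two_mul_card_le (T lam) hnle) (hcount lam)
    have h2 := card_BL_mul_le (L := L) M lam hpt
    exact h1.trans h2
  · push Not at hA
    let _ : CommGroup M := { (inferInstance : Group M) with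
      mul_comm := fun a b => Subtype.ext (hab a a.2 b b.2) }
    have hcard : Nat.card (M →* ℂˣ) = Nat.card M :=
      CommGroup.card_monoidHom_of_hasEnoughRootsOfUnity M ℂ
    have hM2 : 1 < Nat.card M := by
      rcases Nat.lt_or_ge 1 (Nat.card M) with h | h
      · exact h
      · exact absurd (Subgroup.card_eq_one.1 (le_antisymm h Nat.card_pos)) hM0
    obtain ⟨lam₀, hlam₀⟩ : ∃ lam : M →* ℂˣ, lam ≠ 1 := by
      have : Nontrivial (M →* ℂˣ) := by
        rw [← Finite.one_lt_card_iff_nontrivial, hcard]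
        exact hM2
      exact exists_ne 1
    have hTC : ∀ lam : M →* ℂˣ, lam ≠ 1 → T lam = Subgroup.centralizer (M : Set G) := by
      intro lam hlam
      apply le_antisymm
      · have hTn : (T lam).Normal := Subgroup.Normal.of_commutator_le _ (hA lam hlam)
        have h1 : ⁅M, T lam⁆ ≤ M := Subgroup.commutator_le_left M _
        have h2 : (⁅M, T lam⁆).Normal := inferInstance
        rcases hmin _ h2 h1 with h | h
        · rw [Subgroup.commutator_eq_bot_iff_le_centralizer] at h
          intro x hx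
          rw [Subgroup.mem_centralizer_iff]
          intro m hm
          exact ((Subgroup.mem_centralizer_iff.1 (h hm)) x hx).symm
        · exfalso
          apply hlam
          ext m
          have h3 := hker lam (T lam) le_rfl m (by rw [h]; exact m.2) m.2
          rw [show (⟨(m : G), m.2⟩ : M) = m from rfl] at h3
          rw [h3]
          rfl
      · intro x hx
        rw [hT]
        funext m
        show ((lam ⟨x * m * x⁻¹, hM.conj_mem m m.2 x⟩ : ℂˣ) : ℂ) = lam m
        have h1 : (⟨x * m * x⁻¹, hM.conj_mem m m.2 x⟩ : M) = m := by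
          apply Subtype.ext
          show x * m * x⁻¹ = m
          rw [← Subgroup.mem_centralizer_iff.1 hx m m.2, mul_inv_cancel_right]
        rw [h1]
    set C := Subgroup.centralizer (M : Set G) with hC
    have hGC : commutator G ≤ C := hTC lam₀ hlam₀ ▸ hA lam₀ hlam₀
    set t := C.index with ht
    have hpt : p ∣ t := by
      have := hpT lam₀ hlam₀
      rwa [hTC lam₀ hlam₀] at this
    have ht0 : 0 < t := Nat.pos_of_ne_zero Subgroup.index_ne_zero_of_finite
    -- `t` divides `|M| - 1`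
    have htM : t ∣ Nat.card M - 1 := by
      apply dvd_card_sub_one M t
      intro m hm hm1
      congr 1
      have hle : C ≤ Subgroup.centralizer ({m} : Set G) :=
        Subgroup.centralizer_le (Set.singleton_subset_iff.2 hm)
      apply le_antisymm _ hle
      have hn : (Subgroup.centralizer ({m} : Set G)).Normal :=
        Subgroup.Normal.of_commutator_le _ (hGC.trans hle)
      have h2 : (M ⊓ Subgroup.centralizer ((Subgroup.centralizer ({m} : Set G) : Subgroup G) :
          Set G)).Normal := inferInstance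
      rcases hmin _ h2 inf_le_left with h | h
      · exfalso
        apply hm1
        have h3 : m ∈ M ⊓ Subgroup.centralizer ((Subgroup.centralizer ({m} : Set G) :
            Subgroup G) : Set G) := by
          refine ⟨hm, Subgroup.mem_centralizer_iff.2 ?_⟩
          intro y hy
          exact Subgroup.mem_centralizer_singleton_iff.1 hy
        rw [h] at h3
        exact h3
      · intro x hx
        rw [hC, Subgroup.mem_centralizer_iff]
        intro y hy
        rw [← h] at hy
        exact ((Subgroup.mem_centralizer_iff.1 hy.2) x hx).symm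
    -- the double count
    have h3 : Nat.card {lam : M →* ℂˣ // lam ≠ 1} = Nat.card M - 1 := by
      have := Fintype.ofFinite (M →* ℂˣ)
      rw [← hcard, Nat.card_eq_fintype_card, Nat.card_eq_fintype_card,
        Fintype.card_subtype_compl, Fintype.card_subtype_eq]
    have hdc := double_count (t := t) (n := Nat.card (G →* ℂˣ)) M h3 (fun lam hlam => by
      refine (hcount lam).trans ?_
      have h5 : (T lam).index = t := by rw [hTC lam hlam]
      rw [h5]
      refine Nat.mul_le_mul_right _ ?_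
      have := Cfsg.Agent.H705.StrongLin.card_hom_le (T lam)
      rwa [h5] at this)
    have hN0 : 0 < Nat.card M - 1 := by omega
    have hLN : L ≤ Nat.card M - 1 := by
      apply hnum.pow _ (hpt.trans htM) hN0
      rw [Nat.sub_add_cancel hM2.le]
      exact isPrimePow_card M hM0 hmin hab
    have h4 := num_two hnum hpt ht0 htM hN0 hLN hdc
    have h5 := card_X_mul_le (G := G) (L := L) hpt
    exact h4.trans h5

end Cfsg.Agent.H685.Acd
end

-- part: H685/AcdMain
section
/-!
# The reduction of S4830 to simple groups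
-/

set_option autoImplicit false
set_option linter.unusedSectionVars false

namespace Cfsg.Agent.H685.Acd

open Cfsg
open scoped ComplexConjugate commutatorElement
open Cfsg.Agent.Characters.Core
open Cfsg.Agent.OddOrderCharacters.NormalInduced (conjFn)
open Cfsg.Agent.OddOrderCharacters.IndRes (res)
open Cfsg.Agent.OddOrderCharacters.PF9.CliffGen (resTo irr_ind ind_inj isCharacter_resTo inertia
  mem_inertia le_inertia exists_hom_of_ker)
open Cfsg.Agent.H612.MinNormal (cj mem_cj mem_normalizer_iff_cj)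

universe u v

theorem charDegree_eq_one_of_ker {S : Type u} [Group S] [Finite S] {α : S → ℂ}
    (hα : IsIrrCharacter S α) (h : ∀ s, α s = α 1) : charDegree α = 1 := by
  obtain ⟨f, hf⟩ := exists_hom_of_ker hα (fun y _ => h y)
  rw [hf]
  exact charDegree_hom f

/-- Characters of `G` from a character of a simple factor of `M`. -/
theorem nab_count {G : Type u} [Group G] [Fintype G] (M : Subgroup G) [hM : M.Normal] [Fintype M]
    (hMG : M ≤ commutator G) {S : Subgroup G} [hsimple : IsSimpleGroup S]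
    (hSna : ¬ IsMulCommutative S) (hSM : S ≤ M)
    (hcj : ∀ g : G, cj g S = S ∨ cj g S ≤ Subgroup.centralizer (S : Set G))
    (π : M →* S) (hπ1 : ∀ (m : M) (x : S), (m : G) * x * (m : G)⁻¹ = (π m : G) * x * (π m : G)⁻¹)
    (hπ2 : ∀ (m : M) (s : S), (m : G) = s → π m = s) (α : IrrCharacter S)
    (hα : charDegree (α : S → ℂ) ≠ 1) :
    ∃ (T : Subgroup G) (e : ℕ) (Q : IrrCharacter G → Prop), M ≤ T ∧
      (∀ t ∈ T, ∃ h : t ∈ Subgroup.normalizer (S : Set G), ∀ s : S,
        (α : S → ℂ) ⟨t * s * t⁻¹, (Subgroup.mem_normalizer_iff.1 h s).1 s.2⟩ = (α : S → ℂ) s) ∧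
      e ≠ 0 ∧ e ^ 2 ≤ (MulAut.conj : S →* MulAut S).range.index ∧
      Nat.card (G →* ℂˣ) ≤ T.index * e ^ 2 * Nat.card {χ : IrrCharacter G //
        charDegree (χ : G → ℂ) = T.index * (e * charDegree (α : S → ℂ)) ∧ Q χ} := by
  classical
  have hirrθ : IsIrrCharacter M ((α : S → ℂ) ∘ π) := isIrr_comp π (fun s =>
    ⟨⟨s, hSM s.2⟩, hπ2 _ _ rfl⟩) α.2
  set θ : M → ℂ := (α : S → ℂ) ∘ π with hθ
  set T : Subgroup G := inertia M θ with hT
  have hmem : ∀ t, t ∈ T ↔ conjFn M θ t = θ := fun t => Iff.rfl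
  have hMT : M ≤ T := le_inertia (isIrr_isClassFunction hirrθ)
  have hST : S ≤ T := hSM.trans hMT
  have hθs : ∀ (s : S) (h : (s : G) ∈ M), θ ⟨s, h⟩ = (α : S → ℂ) s := by
    intro s h
    rw [hθ, Function.comp_apply, hπ2 ⟨s, h⟩ s rfl]
  have hTel : ∀ t ∈ T, ∀ m : M, θ ⟨t * m * t⁻¹, hM.conj_mem m m.2 t⟩ = θ m := fun t ht m =>
    congrFun ((hmem t).1 ht) m
  -- `T` normalizes `S`
  have hTN : ∀ t ∈ T, t ∈ Subgroup.normalizer (S : Set G) := by
    intro t ht
    rw [mem_normalizer_iff_cj]
    rcases hcj t with h | h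
    · exact h
    · exfalso
      apply hα
      apply charDegree_eq_one_of_ker α.2
      intro s
      have h1 := hTel t ht ⟨s, hSM s.2⟩
      rw [hθs] at h1
      rw [← h1, hθ, Function.comp_apply]
      refine congrArg (α : S → ℂ) ?_
      apply eq_one_of_central hSna
      intro x
      apply Subtype.ext
      have h2 : t * s * t⁻¹ ∈ Subgroup.centralizer (S : Set G) := h ⟨s, s.2, rfl⟩
      have h3 := Subgroup.mem_centralizer_iff.1 h2 x x.2
      have h4 := hπ1 ⟨t * s * t⁻¹, hM.conj_mem _ (hSM s.2) t⟩ x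
      have h5 : (t * s * t⁻¹) * x * (t * s * t⁻¹)⁻¹ = (x : G) := by
        rw [← h3, mul_inv_cancel_right]
      have h6 : (π ⟨t * s * t⁻¹, hM.conj_mem _ (hSM s.2) t⟩ : G) * x *
          (π ⟨t * s * t⁻¹, hM.conj_mem _ (hSM s.2) t⟩ : G)⁻¹ = x := by
        rw [← h4]
        exact h5
      exact mul_inv_eq_iff_eq_mul.1 h6
  have hTα : ∀ t (h : t ∈ T) (s : S), (α : S → ℂ) ⟨t * s * t⁻¹,
      (Subgroup.mem_normalizer_iff.1 (hTN t h) s).1 s.2⟩ = (α : S → ℂ) s := by
    intro t h s
    have h1 := hTel t h ⟨s, hSM s.2⟩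
    rw [hθs] at h1
    rw [← h1, ← hθs ⟨t * s * t⁻¹, (Subgroup.mem_normalizer_iff.1 (hTN t h) s).1 s.2⟩
      (hM.conj_mem _ (hSM s.2) t)]
  -- the action on `S`
  let c : T →* MulAut S := (Subgroup.normalizerMonoidHom S).comp (Subgroup.inclusion hTN)
  have hc : ∀ (t : T) (s : S), ((c t s : S) : G) = t * s * (t : G)⁻¹ := fun t s => rfl
  let B := c.range
  let q : T →* B := c.rangeRestrict
  let j : S →* B := q.comp (Subgroup.inclusion hST)
  have hjv : ∀ s : S, ((j s : B) : MulAut S) = MulAut.conj s := by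
    intro s
    ext x
    rfl
  have hjinj : Function.Injective j := by
    intro a b hab
    have h1 : (MulAut.conj a : MulAut S) = MulAut.conj b := by rw [← hjv, ← hjv, hab]
    have h2 : b⁻¹ * a = 1 := by
      apply eq_one_of_central hSna
      intro x
      have h3 : a * x * a⁻¹ = b * x * b⁻¹ := DFunLike.congr_fun h1 x
      calc b⁻¹ * a * x = b⁻¹ * (a * x * a⁻¹) * a := by group
        _ = b⁻¹ * (b * x * b⁻¹) * a := by rw [h3]
        _ = x * (b⁻¹ * a) := by group
    exact (inv_mul_eq_one.1 h2).symm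
  have hconj : ∀ (t : T) (s s' : S), (s' : G) = t * s * (t : G)⁻¹ → q t * j s * (q t)⁻¹ = j s' := by
    intro t s s' hs
    apply Subtype.ext
    ext x
    show (t : G) * ((s : G) * ((t : G)⁻¹ * x * ((t : G)⁻¹)⁻¹) * (s : G)⁻¹) * (t : G)⁻¹ =
      (s' : G) * x * (s' : G)⁻¹
    rw [hs]
    group
  have hqs : Function.Surjective q := c.rangeRestrict_surjective
  have hjn : j.range.Normal := by
    refine ⟨?_⟩
    rintro _ ⟨s, rfl⟩ b
    obtain ⟨t, rfl⟩ := hqs b
    exact ⟨⟨(t : G) * s * (t : G)⁻¹,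
      (Subgroup.mem_normalizer_iff.1 (hTN t t.2) s).1 s.2⟩, (hconj t s _ rfl).symm⟩
  obtain ⟨β, e, hβ, he0, he, hβe⟩ := exists_over_hom j hjinj hjn α.2 (by
    intro b s s' h
    obtain ⟨t, rfl⟩ := hqs b
    rw [hconj t s ⟨(t : G) * s * (t : G)⁻¹,
      (Subgroup.mem_normalizer_iff.1 (hTN t t.2) s).1 s.2⟩ rfl] at h
    rw [hjinj h]
    exact hTα t t.2 s)
  have hidx : j.range.index ≤ (MulAut.conj : S →* MulAut S).range.index := by
    have h1 : j.range = (MulAut.conj : S →* MulAut S).range.subgroupOf B := by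
      ext b
      constructor
      · rintro ⟨s, rfl⟩
        exact ⟨s, (hjv s).symm⟩
      · rintro ⟨s, hs⟩
        exact ⟨s, Subtype.ext ((hjv s).trans hs)⟩
    rw [h1]
    have h2 := Subgroup.relIndex_le_of_le_right (H := (MulAut.conj : S →* MulAut S).range)
      (K := B) (L := ⊤) le_top (by
        rw [Subgroup.relIndex_top_right]
        exact Subgroup.index_ne_zero_of_finite)
    rwa [Subgroup.relIndex_top_right] at h2
  -- the character of `T`
  have hψ : IsIrrCharacter T (β ∘ q) := isIrr_comp q hqs hβ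
  have hres : resTo hMT (β ∘ q) = (e : ℂ) • θ := by
    funext m
    show β (q ⟨m, hMT m.2⟩) = e * (α : S → ℂ) (π m)
    rw [← hβe]
    congr 1
    apply Subtype.ext
    rw [hjv]
    ext x
    exact hπ1 m x
  have hTf : Fintype T := Fintype.ofFinite _
  have hee : (e : ℂ) ≠ 0 := by exact_mod_cast he0
  have h1 := count M hMG hirrθ T hmem hMT hψ (m := e ^ 2) (d := e * charDegree (α : S → ℂ))
    (by rw [hres, classInner_smul_left, classInner_irr_self hirrθ, mul_one]; exact hee)
    (by
      rw [hres, classInner_smul_left, classInner_smul_right, classInner_irr_self hirrθ,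
        Complex.conj_natCast]
      push_cast
      ring)
    (by
      apply Cfsg.Agent.Blocks.Basic.charDegree_of_eq
      have h2 := hβe 1
      rw [map_one, Cfsg.Agent.Blocks.Basic.irr_one_eq_charDegree α.2] at h2
      show β (q 1) = _
      rw [map_one, h2]
      push_cast
      rfl)
  refine ⟨T, e, fun χ => classInner (res M χ) θ ≠ 0, hMT, fun t ht => ⟨hTN t ht, hTα t ht⟩, he0,
    he.trans hidx, h1.trans ?_⟩
  exact Nat.mul_le_mul_right _ (Nat.mul_le_mul_right _
    (Cfsg.Agent.H705.StrongLin.card_hom_le T))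

theorem num_three {L t e a b n : ℕ} (hL : 1 ≤ L) (ht : t ≠ 0) (he : e ≠ 0) (ha : 3 ≤ a)
    (hea : e ^ 2 < a ^ 2) (hn : n ≤ t * e ^ 2 * b) :
    (L - 1) * n ≤ b * (t * (e * a) * (L + 1) - 2 * L) := by
  obtain ⟨l, rfl⟩ : ∃ l, L = l + 1 := ⟨L - 1, by omega⟩
  rw [Nat.add_sub_cancel]
  have hea' : e + 1 ≤ a := Nat.succ_le_of_lt (lt_of_pow_lt_pow_left₀ 2 (Nat.zero_le _) hea)
  obtain ⟨q, hq⟩ : ∃ q, q = t * e := ⟨_, rfl⟩
  have hq1 : 1 ≤ q := by
    rw [hq]
    exact Nat.one_le_iff_ne_zero.2 (Nat.mul_ne_zero ht he)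
  have key : l * (t * e ^ 2) + 2 * (l + 1) ≤ t * (e * a) * (l + 1 + 1) := by
    have e1 : l * (t * e ^ 2) = l * (q * e) := by rw [hq]; ring
    have e2 : t * (e * a) * (l + 1 + 1) = q * a * (l + 2) := by rw [hq]; ring
    rw [e1, e2]
    rcases Nat.lt_or_ge 1 q with h2 | h2
    · have h3 : q * (e + 1) * (l + 2) ≤ q * a * (l + 2) :=
        Nat.mul_le_mul_right _ (Nat.mul_le_mul_left _ hea')
      have h4 : q * (e + 1) * (l + 2) = l * (q * e) + 2 * (q * e) + q * (l + 2) := by ring
      have h5 : 2 * (l + 2) ≤ q * (l + 2) := Nat.mul_le_mul_right _ h2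
      omega
    · have hq' : q = 1 := by omega
      have he1 : e = 1 := by
        rw [hq'] at hq
        exact Nat.eq_one_of_mul_eq_one_left hq.symm
      rw [hq', he1]
      have h3 : 1 * 3 * (l + 2) ≤ 1 * a * (l + 2) :=
        Nat.mul_le_mul_right _ (Nat.mul_le_mul_left _ ha)
      omega
  have h2 : l * (t * e ^ 2) ≤ t * (e * a) * (l + 1 + 1) - 2 * (l + 1) := by omega
  calc l * n ≤ l * (t * e ^ 2 * b) := Nat.mul_le_mul_left _ hn
    _ = b * (l * (t * e ^ 2)) := by ring
    _ ≤ _ := Nat.mul_le_mul_left _ h2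

/-- Ito-Michler for simple groups, at `p`. -/
def IMp (p : ℕ) : Prop := ∀ (S : Type u) [Group S] [Finite S] [IsSimpleGroup S],
  ¬ IsMulCommutative S → p ∣ Nat.card S → ∃ χ : IrrCharacter S, p ∣ charDegree (χ : S → ℂ)

/-- The order of `Out` is less than the square of any nontrivial degree. -/
def OutDeg : Prop := ∀ (S : Type u) [Group S] [Finite S] [IsSimpleGroup S],
  ¬ IsMulCommutative S → ∀ χ : IrrCharacter S, charDegree (χ : S → ℂ) ≠ 1 →
    3 ≤ charDegree (χ : S → ℂ) ∧
    (MulAut.conj : S →* MulAut S).range.index < charDegree (χ : S → ℂ) ^ 2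

/-- A nonabelian simple group has an irreducible character of degree greater than one. -/
theorem exists_nonlinear {S : Type u} [Group S] [Finite S] [IsSimpleGroup S]
    (hS : ¬ IsMulCommutative S) : ∃ χ : IrrCharacter S, charDegree (χ : S → ℂ) ≠ 1 := by
  classical
  by_contra hcon
  push Not at hcon
  apply hS
  refine ⟨⟨fun a b => ?_⟩⟩
  have h1 : IsConj (a * b) (b * a) := isConj_iff.2 ⟨b, by group⟩
  -- all characters are linear, so commutators are conjugate to `1`
  have h2 : IsConj (a * b * (b * a)⁻¹) 1 := by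
    rw [Cfsg.Agent.Characters.GaloisIrr.isConj_iff_forall_irr]
    intro χ hχ
    obtain ⟨f, hf⟩ := Cfsg.Agent.Characters.Linear.exists_hom_of_isIrrCharacter hχ (by
      rw [Cfsg.Agent.Blocks.Basic.irr_one_eq_charDegree hχ, hcon ⟨χ, hχ⟩, Nat.cast_one])
    rw [hf]
    show ((f (a * b * (b * a)⁻¹) : ℂˣ) : ℂ) = f 1
    rw [map_mul, map_inv, map_mul, map_mul, mul_comm (f b), mul_inv_cancel, map_one]
  rw [isConj_one_left, mul_inv_eq_one] at h2
  exact h2

theorem nonabelian_case {G : Type u} [Group G] [Finite G] {p L : ℕ} [hp : Fact p.Prime]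
    (hL : 1 ≤ L) (hIM : IMp.{u} p) (hOut : OutDeg.{u}) (P : Sylow p G)
    (hP : ¬ (P : Subgroup G).Normal) (M : Subgroup G) [hM : M.Normal] (hM0 : M ≠ ⊥)
    (hMG : M ≤ commutator G) (hmin : ∀ K : Subgroup G, K.Normal → K ≤ M → K = ⊥ ∨ K = M)
    (hna : ¬ ∀ a ∈ M, ∀ b ∈ M, a * b = b * a)
    (hF : M ⊔ Subgroup.normalizer ((P : Subgroup G) : Set G) = ⊤) :
    (L - 1) * Nat.card (G →* ℂˣ) ≤ W p L G := by
  classical
  have := Fintype.ofFinite G
  have := Fintype.ofFinite M
  obtain ⟨S, hSM, hMN, hsimple, hSna, hMS, hcj⟩ :=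
    Cfsg.Agent.H612.MinNormal.exists_factor M hM0 hmin hna
  obtain ⟨π, hπ1, hπ2⟩ := exists_proj hMS (fun z hz => eq_one_of_central hSna hz)
  -- it is enough to find `α` with `p ∣ |G : T| α(1)`
  suffices hsuff : ∃ α : IrrCharacter S, charDegree (α : S → ℂ) ≠ 1 ∧
      ∀ T : Subgroup G, M ≤ T → (∀ t ∈ T, ∃ h : t ∈ Subgroup.normalizer (S : Set G), ∀ s : S,
        (α : S → ℂ) ⟨t * s * t⁻¹, (Subgroup.mem_normalizer_iff.1 h s).1 s.2⟩ = (α : S → ℂ) s) →
        p ∣ T.index ∨ p ∣ charDegree (α : S → ℂ) by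
    obtain ⟨α, hα, hdvd⟩ := hsuff
    obtain ⟨T, e, Q, hMT, hT, he0, he, hcount⟩ :=
      nab_count M hMG hSna hSM hcj π hπ1 hπ2 α hα
    obtain ⟨h3, hout⟩ := hOut S hSna α hα
    have hd : p ∣ T.index * (e * charDegree (α : S → ℂ)) := by
      rcases hdvd T hMT hT with h | h
      · exact Dvd.dvd.mul_right h _
      · exact Dvd.dvd.mul_left (Dvd.dvd.mul_left h _) _
    have h4 := num_three hL Subgroup.index_ne_zero_of_finite he0 h3 (he.trans_lt hout) hcount
    have h5 := card_mul_le (L := L) hd Q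
    exact h4.trans h5
  by_cases hpS : p ∣ Nat.card S
  · obtain ⟨α, hα⟩ := hIM S hSna hpS
    refine ⟨α, ?_, fun T _ _ => Or.inr hα⟩
    intro h1
    rw [h1] at hα
    exact hp.out.one_lt.not_ge (Nat.le_of_dvd one_pos hα)
  · -- a conjugate of an element of `P` does not centralize `S`
    have hle := not_le_normalizer P hP hF
    obtain ⟨x, hx, g, hxg⟩ : ∃ x ∈ P, ∃ g : G, ∃ s ∈ S, (g * x * g⁻¹) * s ≠ s * (g * x * g⁻¹) := by
      by_contra hcon
      push Not at hcon
      apply hle
      have h1 : Subgroup.normalClosure (S : Set G) = M := by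
        rcases hmin (Subgroup.normalClosure (S : Set G)) inferInstance
          (Subgroup.normalClosure_le_normal hSM) with h | h
        · exfalso
          apply hSna
          have h2 : S ≤ ⊥ := by
            rw [← h]
            exact Subgroup.subset_normalClosure
          refine ⟨⟨fun a b => ?_⟩⟩
          have h3 : a = 1 := Subtype.ext (Subgroup.mem_bot.1 (h2 a.2))
          have h4 : b = 1 := Subtype.ext (Subgroup.mem_bot.1 (h2 b.2))
          rw [h3, h4]
        · exact h
      have h2 : M ≤ Subgroup.centralizer ((P : Subgroup G) : Set G) := by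
        rw [← h1]
        show Subgroup.closure (Group.conjugatesOfSet (S : Set G)) ≤ _
        rw [Subgroup.closure_le]
        intro z hz
        obtain ⟨s, hs, hsz⟩ := Group.mem_conjugatesOfSet_iff.1 hz
        obtain ⟨g, rfl⟩ := isConj_iff.1 hsz
        rw [SetLike.mem_coe, Subgroup.mem_centralizer_iff]
        intro x hx
        have h3 := hcon x hx g⁻¹ s hs
        calc x * (g * s * g⁻¹) = g * ((g⁻¹ * x * g⁻¹⁻¹) * s) * g⁻¹ := by group
          _ = g * (s * (g⁻¹ * x * g⁻¹⁻¹)) * g⁻¹ := by rw [h3]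
          _ = g * s * g⁻¹ * x := by group
      exact h2.trans (Subgroup.centralizer_le_normalizer _)
    set y := g * x * g⁻¹ with hy
    have hyp : ∃ k : ℕ, y ^ p ^ k = 1 := by
      obtain ⟨k, hk⟩ := P.isPGroup' ⟨x, hx⟩
      refine ⟨k, ?_⟩
      have hk' : x ^ p ^ k = 1 := congrArg Subtype.val hk
      rw [hy, conj_pow, hk', mul_one, mul_inv_cancel]
    have hdvd : ∀ T : Subgroup G, M ≤ T → y ∉ T → p ∣ T.index := fun T hMT hyT =>
      dvd_index P hMT hF hx hyT
    by_cases hyN : y ∈ Subgroup.normalizer (S : Set G)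
    · obtain ⟨α, s, hne⟩ := exists_char_moved hyN hyp hpS hxg
      refine ⟨α, ?_, fun T hMT hT => Or.inl (hdvd T hMT fun hyT => ?_)⟩
      · intro h1
        apply hne
        obtain ⟨f, hf⟩ := Cfsg.Agent.Characters.Linear.exists_hom_of_isIrrCharacter α.2 (by
          rw [Cfsg.Agent.Blocks.Basic.irr_one_eq_charDegree α.2, h1, Nat.cast_one])
        have htriv : ∀ z : S, f z = 1 := by
          rcases (inferInstance : f.ker.Normal).eq_bot_or_eq_top with h | h
          · exfalso
            apply hSna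
            refine ⟨⟨fun a b => ?_⟩⟩
            have hinj : Function.Injective f := (MonoidHom.ker_eq_bot_iff f).1 h
            apply hinj
            rw [map_mul, map_mul, mul_comm]
          · intro z
            exact MonoidHom.mem_ker.1 (h ▸ Subgroup.mem_top z)
        rw [hf]
        show ((f _ : ℂˣ) : ℂ) = f _
        rw [htriv, htriv]
      · obtain ⟨h, h'⟩ := hT y hyT
        exact hne (h' s)
    · obtain ⟨α, hα⟩ := exists_nonlinear hSna
      refine ⟨α, hα, fun T hMT hT => Or.inl (hdvd T hMT fun hyT => ?_)⟩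
      obtain ⟨h, -⟩ := hT y hyT
      exact hyN h

/-- A nontrivial finite group has a minimal normal subgroup below a nontrivial normal one. -/
theorem exists_min_normal {G : Type u} [Group G] [Finite G] (N : Subgroup G) [hN : N.Normal]
    (hN0 : N ≠ ⊥) : ∃ M : Subgroup G, M.Normal ∧ M ≠ ⊥ ∧ M ≤ N ∧
      ∀ K : Subgroup G, K.Normal → K ≤ M → K = ⊥ ∨ K = M := by
  have hne : ({K : Subgroup G | K.Normal ∧ K ≠ ⊥ ∧ K ≤ N}).Nonempty := ⟨N, hN, hN0, le_rfl⟩
  obtain ⟨M, hM⟩ := (Set.toFinite {K : Subgroup G | K.Normal ∧ K ≠ ⊥ ∧ K ≤ N}).exists_minimal hne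
  refine ⟨M, hM.1.1, hM.1.2.1, hM.1.2.2, fun K hK hKM => ?_⟩
  by_cases h : K = ⊥
  · exact Or.inl h
  · exact Or.inr (le_antisymm hKM (hM.2 ⟨hK, h, hKM.trans hM.1.2.2⟩ hKM))

/-- **Main theorem.** -/
theorem main {p L : ℕ} [hp : Fact p.Prime] (hnum : Num p L) (hIM : IMp.{u} p)
    (hOut : OutDeg.{u}) : ∀ (n : ℕ) (G : Type u) [Group G] [Finite G], Nat.card G ≤ n →
      ∀ P : Sylow p G, ¬ (P : Subgroup G).Normal → (L - 1) * Nat.card (G →* ℂˣ) ≤ W p L G := by
  intro n
  induction n with
  | zero =>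
    intro G _ _ hn
    exact absurd hn (by have := Nat.card_pos (α := G); omega)
  | succ n ih =>
    intro G _ _ hn P hP
    have hcomm : commutator G ≠ ⊥ := by
      intro h
      apply hP
      have h1 := (commutator_eq_bot_iff_center_eq_top G).1 h
      have h2 : (P : Subgroup G) ≤ Subgroup.center G := h1 ▸ le_top
      refine ⟨fun x hx g => ?_⟩
      have h3 := Subgroup.mem_center_iff.1 (h2 hx) g
      rw [h3, mul_inv_cancel_right]
      exact hx
    obtain ⟨M, hM, hM0, hMG, hmin⟩ := exists_min_normal (commutator G) hcomm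
    by_cases hq : ∀ Q : Sylow p (G ⧸ M), (Q : Subgroup (G ⧸ M)).Normal
    · have hF := frattini P M hq
      by_cases hab : ∀ a ∈ M, ∀ b ∈ M, a * b = b * a
      · exact abelian_case hnum P hP M hM0 hMG hmin hab hF
      · exact nonabelian_case hnum.pos hIM hOut P hP M hM0 hMG hmin hab hF
    · push Not at hq
      obtain ⟨Q, hQ⟩ := hq
      have hlt : Nat.card (G ⧸ M) ≤ n := by
        have h1 := Subgroup.card_mul_index M
        have h2 : 1 < Nat.card M := by
          rcases Nat.lt_or_ge 1 (Nat.card M) with h | h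
          · exact h
          · exact absurd (Subgroup.card_eq_one.1 (le_antisymm h Nat.card_pos)) hM0
        have h3 : 0 < M.index := Nat.pos_of_ne_zero Subgroup.index_ne_zero_of_finite
        rw [← Subgroup.index_eq_card]
        nlinarith
      have h1 := ih (G ⧸ M) hlt Q hQ
      rw [card_hom_quotient G M hMG] at h1
      exact h1.trans (W_le_of_surjective (QuotientGroup.mk' M) (QuotientGroup.mk'_surjective M))

/-- **S4830 from the facts on simple groups.** -/
theorem reduction (p : ℕ) [hp : Fact p.Prime] (ℓ : ℕ) (hℓ : 0 < ℓ)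
    (hmin : ∀ m : ℕ, 0 < m → m < ℓ → ¬ IsPrimePow (m * p + 1)) (hIM : IMp.{u} p)
    (hOut : OutDeg.{u}) {G : Type u} [Group G] [Finite G]
    (hacd : (∑ᶠ χ : {χ : IrrCharacter G //
      charDegree (χ : G → ℂ) = 1 ∨ p ∣ charDegree (χ : G → ℂ)}, charDegree (χ.1 : G → ℂ)) *
      (ℓ * p + 1) < 2 * ℓ * p * Nat.card {χ : IrrCharacter G //
        charDegree (χ : G → ℂ) = 1 ∨ p ∣ charDegree (χ : G → ℂ)}) (P : Sylow p G) :
    (P : Subgroup G).Normal := by
  by_contra hP
  have h1 := main (num_of_min hp.out hℓ hmin) hIM hOut (Nat.card G) G le_rfl P hP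
  have h2 := lt_of_acd (L := ℓ * p) hp.out.two_le (by rwa [← mul_assoc])
  exact absurd h2 (not_lt.2 h1)

end Cfsg.Agent.H685.Acd
end
end

-- part: H954/OutAllD
section
set_option linter.all false
open scoped Cfsg.Agent.FastGrp

/-!
# `|Out G| < χ(1) ^ 2` for every known simple group (helper954, for S4830)
-/

set_option autoImplicit false

namespace Cfsg.Agent.H954.OutAllD

open Cfsg Cfsg.Agent.H954.OutDeg Cfsg.Agent.H954.OutLinB

universe u v

variable {G : Type u} [Group G]

theorem od_alternating [Finite G] [IsSimpleGroup G] (hna : ¬ IsMulCommutative G) (h : Cfsg.IsAlternating G) :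
    OD G := by
  obtain ⟨n, hn, ⟨e⟩⟩ := h
  rcases eq_or_ne n 6 with rfl | h6
  · have : Fact (Nat.Prime 3) := ⟨by norm_num⟩
    have : Fintype (GaloisField 3 2) := Fintype.ofFinite _
    have hF : Fintype.card (GaloisField 3 2) = 9 := by
      rw [← Nat.card_eq_fintype_card, GaloisField.card 3 2 (by norm_num)]
      norm_num
    obtain ⟨e'⟩ := Cfsg.Agent.S0254.result hF
    have e2 := e.trans e'.symm
    have := simple_of e2
    have h1 := Cfsg.Agent.H685.OutDegCl.psl (F := GaloisField 3 2) le_rfl (fun _ => by rw [hF]; norm_num) inferInstance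
      (not_comm_of hna e2)
    exact h1.congr e2.symm
  · exact (ol_alternating hna hn h6 e).od

/-- **`|Out G| < χ(1) ^ 2`** for every nonlinear irreducible character `χ` of a nonabelian known simple group `G`. -/
theorem od [Finite G] [IsSimpleGroup G] (hna : ¬ IsMulCommutative G) (h : Cfsg.IsKnownSimple' G) : OD G := by
  rcases h with h | h | h | h | h | h | h | h | h | h
  · exfalso
    apply hna
    have : Fact (Nat.card G).Prime := ⟨h⟩
    have : IsCyclic G := isCyclic_of_prime_card rfl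
    infer_instance
  · exact od_alternating hna h
  · obtain ⟨F, _, _, n, hn, h4, ⟨e⟩⟩ := h
    exact (Cfsg.Agent.H685.OutDegCl.psl hn h4 (simple_of e) (not_comm_of hna e)).congr e.symm
  · obtain ⟨F, _, _, m, hm, h3, ⟨e⟩⟩ := h
    exact (Cfsg.Agent.H685.OutDegCl.psp hm h3 (simple_of e) (not_comm_of hna e)).congr e.symm
  · obtain ⟨F, _, _, n, q, hF, hn, h32, ⟨e⟩⟩ := h
    exact (Cfsg.Agent.H685.OutDegCl.psu hF hn h32 (simple_of e) (not_comm_of hna e)).congr e.symm
  · obtain ⟨F, _, _, m, hm, ho, ⟨e⟩⟩ := h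
    exact (Cfsg.Agent.H685.OutDegCl.pomega_odd hm ho (simple_of e) (not_comm_of hna e)).congr e.symm
  · obtain ⟨F, _, _, m, hm, ⟨e⟩⟩ := h
    exact (Cfsg.Agent.H685.OutDegCl.pomega_plus hm (simple_of e) (not_comm_of hna e)).congr e.symm
  · obtain ⟨F, _, _, m, a, b, hm, hab, ⟨e⟩⟩ := h
    exact (Cfsg.Agent.H685.OutDegCl.pomega_minus hm a b hab (simple_of e) (not_comm_of hna e)).congr e.symm
  · rcases h with h | h | h | h | h | h | h | h | h | h | h
    · exact (ol_g2 hna h).od
    · exact (ol_f4 h).od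
    · exact (ol_e6 h).od
    · exact (ol_e7 hna h).od
    · exact (ol_e8 hna h).od
    · exact (ol_2e6 h).od
    · exact (ol_3d4 h).od
    · exact (ol_sz h).od
    · exact (ol_ree h).od
    · exact (ol_2f4 h).od
    · exact (ol_tits hna h).od
  · exact (ol_sporadic hna h).od

/-- The hypothesis of `H685.Acd.reduction`. -/
theorem outDeg (hK : ∀ (X : Type u) [Group X] [Finite X] [IsSimpleGroup X], Cfsg.IsKnownSimple' X) :
    Cfsg.Agent.H685.Acd.OutDeg.{u} := fun S _ _ _ hna χ hχ =>
  ⟨md_three hna χ hχ, od hna (hK S) χ hχ⟩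

end Cfsg.Agent.H954.OutAllD
end
end
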