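import Cfsg.Agent.H685.OutDegCl
import Cfsg.Agent.H597.PsuDeg
import Cfsg.Agent.H934.OutCl
import Cfsg.Agent.H727.PslSq
import Cfsg.Agent.H954.OutLinB
import Cfsg.Agent.S0254
import Cfsg.Agent.Prune
set_option linter.all false
prune_inst 0x7f00000000000000000000000000000000000000000000000000000000000000000000000000000000000000000000000000000000000000000000000000000000000000000000000000000000000000003fffffffffffffffffffffffffffbeffbdffffffff
open scoped Cfsg.Agent.FastGrp

-- part: H685/OutLinCl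
section
/-!
# `|Out X| < χ(1)` for the classical groups (S4830, S4831)
-/

set_option autoImplicit false

namespace Cfsg.Agent.H685.OutLinCl

open Cfsg.Agent.H934.OutB Matrix Cfsg.Agent.H954.OutDeg Cfsg.Agent.H934.OutCl
open Cfsg.Agent.ClassicalGeometry.AutPSL.Root Cfsg.Agent.H934.IdxSL Cfsg.Agent.H934.IdxCl
open Cfsg.Agent.H685.OutDegCl

universe u v

theorem two_mul_le_pow {p f : ℕ} (hp : 2 ≤ p) (hf : 1 ≤ f) : 2 * f ≤ p ^ f := by
  refine le_trans ?_ (Nat.pow_le_pow_left hp f)
  obtain ⟨k, rfl⟩ : ∃ k, f = k + 1 := ⟨f - 1, by omega⟩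
  have h1 : k < 2 ^ k := Nat.lt_pow_self (by norm_num)
  rw [pow_succ]
  omega

variable {F : Type u} [Field F] [Fintype F]

theorem psl {n : ℕ} (hn : 3 ≤ n) (hs : IsSimpleGroup (ProjectiveSpecialLinearGroup (Fin n) F))
    (hna : ¬ IsMulCommutative (ProjectiveSpecialLinearGroup (Fin n) F)) :
    OL (ProjectiveSpecialLinearGroup (Fin n) F) := by
  classical
  obtain ⟨p, f, hp, hf, hF⟩ := exists_pf F
  have := Fact.mk hp
  have := finite_psl (F := F) n
  have h1 := Cfsg.Agent.S0813.result (F := F) p f hf hF n (by omega) (by omega)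
  rw [if_neg (by omega), card_pgl (by omega), ← mul_assoc] at h1
  have h2 := card_out_of_aut hna h1
  obtain ⟨i0, j0, hij⟩ := Fintype.one_lt_card_iff.1 (show 1 < Fintype.card (Fin n) by
    rw [Fintype.card_fin]; omega)
  have ha1 : (Pi.single i0 1 : Fin n → F) ≠ 0 := by simp
  have h3 : MD (ProjectiveSpecialLinearGroup (Fin n) F) (Fintype.card F ^ (n - 1) - 1) := by
    refine (md_fused ((QuotientGroup.mk' (Subgroup.center (_root_.Matrix.SpecialLinearGroup (Fin n) F))))
      (Qs (Pi.single i0 1 : Fin n → F)) ?_ (Qs_isConj (by rwa [Fintype.card_fin]) ha1)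
      ⟨tr _ _ (hs_of hij), mem_Qs.2 ⟨_, _, rfl⟩,
        ne_one_of_not_comm (MonoidHom.id _) Function.injective_id (not_comm hij)⟩).mono ?_
    · rintro _ ⟨φ, h, rfl⟩ _ ⟨ψ, h', rfl⟩
      rw [tr_mul_same_center _ _ _ h h', tr_mul_same_center _ _ _ h' h]
      apply sl_ext
      intro z
      rw [tr_mulVec, tr_mulVec, add_comm φ ψ]
    · have := card_Qs (F := F) i0
      rw [Fintype.card_fin] at this
      omega
  have hq : 2 ≤ Fintype.card F := Fintype.one_lt_card
  have hfq : 2 * f ≤ Fintype.card F := by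
    rw [hF]; exact two_mul_le_pow hp.two_le hf
  have hg : Nat.gcd n (Fintype.card F - 1) ≤ Fintype.card F - 1 := Nat.gcd_le_right _ (by omega)
  refine (h3.mono (e := Fintype.card F ^ 2 - 1) ?_).ol ?_
  · have : Fintype.card F ^ 2 ≤ Fintype.card F ^ (n - 1) := Nat.pow_le_pow_right (by omega) (by omega)
    omega
  · rw [h2]
    generalize Fintype.card F = q at hq hfq hg
    obtain ⟨a, rfl⟩ : ∃ a, q = a + 2 := ⟨q - 2, by omega⟩
    have h4 : (a + 2) ^ 2 - 1 = (a + 1) * (a + 3) := by
      have : (a + 2) ^ 2 = (a + 1) * (a + 3) + 1 := by ring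
      omega
    rw [h4]
    calc 2 * f * Nat.gcd n (a + 2 - 1) ≤ (a + 2) * (a + 1) := Nat.mul_le_mul hfq (by omega)
      _ < _ := by linarith only []

/-! ### Symplectic groups -/

/-- The unipotent radical of the Siegel parabolic subgroup of `Sp_4`. -/
def sm (x : F × F × F) : Matrix (Fin 2) (Fin 2) F := !![x.1, x.2.1; x.2.1, x.2.2]

theorem sm_transpose (x : F × F × F) : (sm x)ᵀ = sm x := by
  ext i j
  fin_cases i <;> fin_cases j <;> rfl

theorem sm_add (x y : F × F × F) : sm (x + y) = sm x + sm y := by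
  ext i j
  fin_cases i <;> fin_cases j <;> rfl

theorem sm_inj {x y : F × F × F} (h : sm x = sm y) : x = y := by
  have h1 := congrFun (congrFun h 0) 0
  have h2 := congrFun (congrFun h 0) 1
  have h3 := congrFun (congrFun h 1) 1
  exact Prod.ext h1 (Prod.ext h2 h3)

theorem sm_zero : sm (0 : F × F × F) = 0 := by
  ext i j
  fin_cases i <;> fin_cases j <;> rfl

theorem mem_upper (S : Matrix (Fin 2) (Fin 2) F) (h : Sᵀ = S) :
    fromBlocks 1 S 0 1 ∈ symplecticGroup (Fin 2) F := by
  rw [SymplecticGroup.mem_iff, Matrix.J, fromBlocks_transpose, fromBlocks_multiply, fromBlocks_multiply]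
  simp [h]

theorem mem_lower : fromBlocks 1 0 1 1 ∈ symplecticGroup (Fin 2) F := by
  rw [SymplecticGroup.mem_iff, Matrix.J, fromBlocks_transpose, fromBlocks_multiply, fromBlocks_multiply]
  simp

/-- The elementary abelian subgroup. -/
def spHom (F : Type u) [Field F] [Fintype F] : Multiplicative (F × F × F) →* symplecticGroup (Fin 2) F where
  toFun x := ⟨fromBlocks 1 (sm x.toAdd) 0 1, mem_upper _ (sm_transpose _)⟩
  map_one' := by
    apply Subtype.ext
    show fromBlocks 1 (sm (0 : F × F × F)) 0 1 = 1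
    rw [sm_zero, fromBlocks_one]
  map_mul' x y := by
    apply Subtype.ext
    show fromBlocks 1 (sm (x.toAdd + y.toAdd)) 0 1 = fromBlocks 1 (sm x.toAdd) 0 1 * fromBlocks 1 (sm y.toAdd) 0 1
    rw [fromBlocks_multiply, sm_add]
    simp [add_comm]

theorem spHom_not_comm {x : Multiplicative (F × F × F)} (hx : x ≠ 1) :
    spHom F x * ⟨_, mem_lower⟩ ≠ ⟨_, mem_lower⟩ * spHom F x := by
  intro h
  have h1 : fromBlocks 1 (sm x.toAdd) 0 1 * fromBlocks 1 0 1 1 = fromBlocks 1 0 1 1 * fromBlocks 1 (sm x.toAdd) 0 1 :=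
    congrArg Subtype.val h
  rw [fromBlocks_multiply, fromBlocks_multiply, fromBlocks_inj] at h1
  have h2 := h1.1
  simp only [mul_one, one_mul, mul_zero, add_zero, zero_add] at h2
  apply hx
  apply Multiplicative.toAdd.injective
  apply sm_inj
  show sm x.toAdd = sm 0
  rw [sm_zero]
  have h3 : (1 : Matrix (Fin 2) (Fin 2) F) + sm x.toAdd = 1 + 0 := by rw [h2, add_zero]
  exact add_left_cancel h3

theorem md_psp_two (hs : IsSimpleGroup (Cfsg.PSp 2 F)) {p f : ℕ} [Fact p.Prime] (hF : Fintype.card F = p ^ f) :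
    MD (Cfsg.PSp 2 F) (3 * f) := by
  classical
  intro χ hχ
  have : Finite (symplecticGroup (Fin 2) F) := Subtype.finite
  have : Finite (Cfsg.PSp 2 F) := inferInstance
  have hp : CharP F p := by
    obtain ⟨r, hr⟩ := CharP.exists F
    obtain ⟨n, hr', hn⟩ := FiniteField.card F r
    have : Fact r.Prime := ⟨hr'⟩
    have h1 : r ∣ p ^ f := by rw [← hF, hn]; exact dvd_pow_self r n.ne_zero
    have h2 := (Nat.prime_dvd_prime_iff_eq hr' (Fact.out : p.Prime)).1 (hr'.dvd_of_dvd_pow h1)
    rwa [h2] at hr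
  refine DegLow.rank_le (A := Multiplicative (F × F × F)) (p := p) χ.2 hχ
    ((QuotientGroup.mk' (Subgroup.center (symplecticGroup (Fin 2) F))).comp (spHom F)) ?_
    (Fact.out : p.Prime).one_lt ?_ ?_
  · rw [injective_iff_map_eq_one]
    intro x hx
    by_contra hx1
    have h1 : spHom F x ∈ Subgroup.center (symplecticGroup (Fin 2) F) := (QuotientGroup.eq_one_iff _).1 hx
    rw [Subgroup.mem_center_iff] at h1
    exact spHom_not_comm hx1 (h1 _).symm
  · intro a
    apply Multiplicative.toAdd.injective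
    rw [toAdd_pow, toAdd_one]
    have h0 : ∀ z : F, p • z = 0 := fun z => by rw [nsmul_eq_mul, CharP.cast_eq_zero, zero_mul]
    exact Prod.ext (h0 _) (Prod.ext (h0 _) (h0 _))
  · rw [Nat.card_congr Multiplicative.toAdd, Nat.card_prod, Nat.card_prod, Nat.card_eq_fintype_card, hF]
    apply le_of_eq
    ring

/-- `GL_m` fused transvections. -/
theorem md_gl {ι : Type} [Fintype ι] [DecidableEq ι] {X : Type v} [Group X] [Finite X] [IsSimpleGroup X]
    (π : GL ι F →* X) {i0 j0 : ι} (hij : i0 ≠ j0)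
    (hπ : π (SpecialLinearGroup.toGL (tr (Pi.single i0 1 : ι → F) (Pi.single j0 1) (hs_of hij))) ≠ 1) :
    MD X (Fintype.card F ^ (Fintype.card ι - 1) - 1) := by
  classical
  have ha1 : (Pi.single i0 1 : ι → F) ≠ 0 := by simp
  have hinj : Function.Injective (SpecialLinearGroup.toGL : _root_.Matrix.SpecialLinearGroup ι F →* GL ι F) := by
    intro x y hxy
    exact Subtype.ext (congrArg (fun g : GL ι F => (g : Matrix ι ι F)) hxy)
  have h1 : Nat.card (Qs (Pi.single i0 1 : ι → F)) = Nat.card ((Qs (Pi.single i0 1 : ι → F)).map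
      (SpecialLinearGroup.toGL : _root_.Matrix.SpecialLinearGroup ι F →* GL ι F)) :=
    Nat.card_congr (Subgroup.equivMapOfInjective _ _ hinj).toEquiv
  have h2 := card_Qs (F := F) i0
  rw [h1] at h2
  have key : ∀ (φ : ι → F) (h : φ ⬝ᵥ (Pi.single i0 1 : ι → F) = 0)
      (_ : SpecialLinearGroup.toGL (tr (Pi.single i0 1 : ι → F) φ h) ≠ 1),
      IsConj (SpecialLinearGroup.toGL (tr (Pi.single i0 1 : ι → F) (Pi.single j0 1) (hs_of hij)))
        (SpecialLinearGroup.toGL (tr (Pi.single i0 1 : ι → F) φ h)) := by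
    intro φ h hx
    have hφ : φ ≠ 0 := by
      rintro rfl
      exact hx (by rw [tr_zero, map_one])
    obtain ⟨A, hA1, hA2⟩ := Cfsg.Agent.ClassicalGeometry.AutPSL.Frame.exists_gl ha1 hφ h hij
    rw [isConj_iff]
    refine ⟨A, ?_⟩
    rw [mul_inv_eq_iff_eq_mul]
    apply Units.ext
    exact conj_tr_aux hA1 hA2
  refine (md_fused π ((Qs (Pi.single i0 1 : ι → F)).map
      (SpecialLinearGroup.toGL : _root_.Matrix.SpecialLinearGroup ι F →* GL ι F)) ?_ ?_
      ⟨_, ⟨tr _ _ (hs_of hij), mem_Qs.2 ⟨_, _, rfl⟩, rfl⟩, hπ⟩).mono (Nat.sub_le_sub_right h2 1)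
  · rintro _ ⟨_, ⟨φ, h, rfl⟩, rfl⟩ _ ⟨_, ⟨ψ, h', rfl⟩, rfl⟩
    rw [← map_mul, ← map_mul, tr_mul_same_center _ _ _ h h', tr_mul_same_center _ _ _ h' h]
    congr 1
    apply sl_ext
    intro z
    rw [tr_mulVec, tr_mulVec, add_comm φ ψ]
  · rintro _ ⟨x, ⟨φ, h, rfl⟩, rfl⟩ _ ⟨y, ⟨ψ, h', rfl⟩, rfl⟩ hx hy
    exact (key φ h hx).symm.trans (key ψ h' hy)

/-- `PSp_2m(q)`. -/
theorem psp {m : ℕ} (hm : 2 ≤ m) (h3 : m = 2 → 3 ≤ Fintype.card F) (hs : IsSimpleGroup (Cfsg.PSp m F))
    (hna : ¬ IsMulCommutative (Cfsg.PSp m F)) : OL (Cfsg.PSp m F) := by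
  classical
  obtain ⟨p, f, hp, hf, hF⟩ := exists_pf F
  have := Fact.mk hp
  haveI : Finite (symplecticGroup (Fin m) F) := Subtype.finite
  haveI : Finite (Cfsg.PSp m F) := inferInstance
  have h1 := Cfsg.Agent.S0814.result (F := F) p f hf hF m hm (by rwa [hF] at h3)
  have h2 := card_out_of_aut hna h1
  have hN : Nat.card (Cfsg.Out (Cfsg.PSp m F)) ≤ 2 * f := by
    rw [h2]
    apply Nat.mul_le_mul_right
    split_ifs with h
    · obtain ⟨rfl, rfl⟩ := h
      have h6 : Odd (2 ^ f - 1) := by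
        obtain ⟨k, rfl⟩ : ∃ k, f = k + 1 := ⟨f - 1, by omega⟩
        have : 0 < 2 ^ k := by positivity
        rw [pow_succ]
        exact ⟨2 ^ k - 1, by omega⟩
      rw [Nat.coprime_two_left.2 h6]
    · rw [one_mul]
      exact Nat.gcd_le_left _ (by norm_num)
  obtain ⟨i0, j0, hij⟩ := Fintype.one_lt_card_iff.1 (show 1 < Fintype.card (Fin m) by
    rw [Fintype.card_fin]; omega)
  have hmd : MD (Cfsg.PSp m F) (Fintype.card F ^ (Fintype.card (Fin m) - 1) - 1) := by
    have hnc : SpecialLinearGroup.toGL (tr (Pi.single i0 1 : Fin m → F) (Pi.single j0 1) (hs_of hij)) *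
        SpecialLinearGroup.toGL (tr (Pi.single j0 1 : Fin m → F) (Pi.single i0 1) (hs_of hij.symm)) ≠
        SpecialLinearGroup.toGL (tr (Pi.single j0 1 : Fin m → F) (Pi.single i0 1) (hs_of hij.symm)) *
        SpecialLinearGroup.toGL (tr (Pi.single i0 1 : Fin m → F) (Pi.single j0 1) (hs_of hij)) := by
      rw [← map_mul, ← map_mul]
      intro h
      exact not_comm hij (Subtype.ext (congrArg (fun g : GL (Fin m) F => (g : Matrix (Fin m) (Fin m) F)) h))
    exact md_gl ((QuotientGroup.mk' (Subgroup.center (symplecticGroup (Fin m) F))).comp (levSp m F))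
      hij (ne_one_of_not_comm (levSp m F) levSp_injective hnc)
  rw [Fintype.card_fin] at hmd
  rcases (show f = 1 ∨ 2 ≤ f by omega) with rfl | hf2
  · exact (md_three hna).ol (by omega)
  rcases hm.eq_or_lt with rfl | hm3
  · rcases (show f = 2 ∨ 3 ≤ f by omega) with rfl | hf3
    · exact (md_psp_two hs hF).ol (by omega)
    · refine hmd.ol (lt_of_le_of_lt hN ?_)
      rw [hF, show 2 - 1 = 1 from rfl, pow_one]
      have h5 : 2 * f + 1 < p ^ f := by
        refine lt_of_lt_of_le ?_ (Nat.pow_le_pow_left hp.two_le f)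
        obtain ⟨k, rfl⟩ : ∃ k, f = k + 3 := ⟨f - 3, by omega⟩
        have h1 : k < 2 ^ k := Nat.lt_pow_self (by norm_num)
        rw [pow_add]
        omega
      omega
  · refine hmd.ol (lt_of_le_of_lt hN ?_)
    have h5 : 2 * f ≤ p ^ f := two_mul_le_pow hp.two_le hf
    have h6 : Fintype.card F ^ 2 ≤ Fintype.card F ^ (m - 1) := Nat.pow_le_pow_right Fintype.card_pos (by omega)
    have h7 : 4 ≤ p ^ f := by omega
    rw [hF] at h6 ⊢
    nlinarith only [hf2, h5, h6, Nat.sub_add_cancel (show 1 ≤ (p ^ f) ^ (m - 1) from Nat.one_le_iff_ne_zero.2 (by positivity))]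

/-! ### Unitary groups -/

/-- `PSU_n(q)`. -/
theorem psu {n q : ℕ} (hF : Fintype.card F = q ^ 2) (hn : 3 ≤ n) (h32 : ¬ (n = 3 ∧ q = 2))
    (hs : IsSimpleGroup (Cfsg.PSU n F q)) (hna : ¬ IsMulCommutative (Cfsg.PSU n F q)) : OL (Cfsg.PSU n F q) := by
  obtain ⟨p, f', hp, hf', hF'⟩ := exists_pf F
  have := Fact.mk hp
  obtain ⟨f, -, hq⟩ : ∃ f ≤ f', q = p ^ f := (Nat.dvd_prime_pow hp).1 (by
    rw [← hF', hF]; exact dvd_pow_self q (by norm_num))
  have hf : 1 ≤ f := by
    by_contra h0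
    have : f = 0 := by omega
    subst this
    rw [hq, pow_zero, one_pow] at hF
    have := Fintype.one_lt_card (α := F)
    omega
  haveI : Finite (Cfsg.PSU n F q) := inferInstance
  have h1 := Cfsg.Agent.S0815.result (F := F) p f hf hq hF n hn h32
  have h2 := card_out_of_aut hna h1
  refine (Cfsg.Agent.H597.PsuDeg.md_psu hF hn (MulEquiv.refl _)).ol ?_
  rw [h2]
  have h2f : 2 * f ≤ q := by rw [hq]; exact two_mul_le_pow hp.two_le hf
  have hg : Nat.gcd n (q + 1) ≤ q + 1 := Nat.gcd_le_right _ (by omega)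
  have hgn : Nat.gcd n (q + 1) ≤ n := Nat.gcd_le_left _ (by omega)
  rcases hn.eq_or_lt with rfl | hn4
  · rw [show 3 - 2 = 1 from rfl, pow_one]
    by_cases hq3 : q = 3
    · subst hq3
      rw [show Nat.gcd 3 (3 + 1) = 1 from rfl]
      omega
    by_cases hq4 : q = 4
    · subst hq4
      rw [show Nat.gcd 3 (4 + 1) = 1 from rfl]
      omega
    have hq5 : 5 ≤ q := by
      have : q ≠ 2 := fun h => h32 ⟨rfl, h⟩
      have : 2 ≤ q := by omega
      omega
    calc Nat.gcd 3 (q + 1) * (2 * f) ≤ 3 * q := Nat.mul_le_mul hgn h2f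
      _ < (q - 1) * q := by
        apply Nat.mul_lt_mul_of_pos_right <;> omega
  · by_cases hq2 : q = 2
    · subst hq2
      have hf1 : f = 1 := by omega
      subst hf1
      rw [show 2 - 1 = 1 from rfl, one_mul]
      rcases (show n = 4 ∨ n = 5 ∨ 6 ≤ n by omega) with rfl | rfl | h6
      · decide
      · decide
      · calc Nat.gcd n (2 + 1) * (2 * 1) ≤ 6 := by omega
          _ < 2 ^ 4 := by norm_num
          _ ≤ _ := Nat.pow_le_pow_right (by norm_num) (by omega)
    · have hq3 : 3 ≤ q := by omega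
      calc Nat.gcd n (q + 1) * (2 * f) ≤ (q + 1) * q := Nat.mul_le_mul hg h2f
        _ < (q - 1) * q ^ 2 := by
          obtain ⟨a, rfl⟩ : ∃ a, q = a + 3 := ⟨q - 3, by omega⟩
          rw [show a + 3 - 1 = a + 2 by omega]
          linarith only [Nat.zero_le (a * a * a), _root_.mul_self_nonneg (↑a : ℤ), _root_.Nat.cast_nonneg (α := ℤ) (a)]
        _ ≤ _ := Nat.mul_le_mul_left _ (Nat.pow_le_pow_right (by omega) (by omega))

/-! ### Orthogonal groups -/

section orth

open Cfsg Cfsg.Agent.H686.CharKit Cfsg.Agent.LieClassical Cfsg.Agent.LieClassical.OrthCore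
  Cfsg.Agent.LieClassical.OrthTrans Cfsg.Agent.LieClassical.OrthFinite

variable {F : Type} [Field F] [Fintype F]

/-- `PΩ_{2m+1}(q)`. -/
theorem pomega_odd {m : ℕ} (hm : 3 ≤ m) (hodd : Odd (Fintype.card F))
    (hs : IsSimpleGroup (Cfsg.POmega F (Cfsg.quadFormOdd m F)))
    (hna : ¬ IsMulCommutative (Cfsg.POmega F (Cfsg.quadFormOdd m F))) :
    OL (Cfsg.POmega F (Cfsg.quadFormOdd m F)) := by
  classical
  obtain ⟨p, f, hp, hf, hF⟩ := exists_pf F
  have := Fact.mk hp
  haveI : Finite (Cfsg.isometryGroup F (Cfsg.quadFormOdd m F)) := inferInstance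
  haveI : Finite (Cfsg.POmega F (Cfsg.quadFormOdd m F)) := inferInstance
  have hpo : Odd p := by
    rw [hF] at hodd
    exact Nat.Odd.of_mul_left (n := p ^ (f - 1)) (by rwa [← pow_succ', Nat.sub_add_cancel hf])
  have h1 := Cfsg.Agent.S0816.result (F := F) p f hf hF hpo m hm
  have h2 := card_out_of_aut hna h1
  have h2F : (2 : F) ≠ 0 := Cfsg.Agent.LieClassical.PomegaCard.odd_card_iff.1 hodd
  intro χ hχ
  have h3 := Cfsg.Agent.H677.OmegaIrr.charDegree_ge_odd (m := m) (by omega) h2F (MulEquiv.refl _) χ (ne_one hχ)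
  refine lt_of_lt_of_le ?_ h3
  rw [Nat.card_eq_fintype_card (α := F), hF, h2]
  have h5 : 2 * f ≤ p ^ f := two_mul_le_pow hp.two_le hf
  have h6 : (p ^ f) ^ 2 ≤ (p ^ f) ^ (2 * m - 3) := Nat.pow_le_pow_right (by omega) (by omega)
  nlinarith only [hf, h5, h6]

theorem arith_orth {p f d N : ℕ} (hp : 2 ≤ p) (hf : 1 ≤ f) (hd : (p ^ f) ^ 4 ≤ d)
    (hN : N ≤ (if p = 2 then 6 else 24) * f) : N < d := by
  refine lt_of_lt_of_le ?_ hd
  rw [← pow_mul, mul_comm f 4, pow_mul]
  obtain ⟨k, rfl⟩ : ∃ k, f = k + 1 := ⟨f - 1, by omega⟩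
  split_ifs at hN with h
  · subst h
    have h3 : k < 16 ^ k := Nat.lt_pow_self (by norm_num)
    rw [pow_succ]
    norm_num
    omega
  · have h4 : (3 ^ 4) ^ (k + 1) ≤ (p ^ 4) ^ (k + 1) :=
      Nat.pow_le_pow_left (Nat.pow_le_pow_left (by omega) 4) _
    refine lt_of_lt_of_le ?_ h4
    have h3 : k < 81 ^ k := Nat.lt_pow_self (by norm_num)
    rw [pow_succ]
    norm_num
    omega

/-- `PΩ⁺_{2m}(q)`. -/
theorem pomega_plus {m : ℕ} (hm : 4 ≤ m) (hs : IsSimpleGroup (Cfsg.POmega F (Cfsg.quadFormPlus m F)))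
    (hna : ¬ IsMulCommutative (Cfsg.POmega F (Cfsg.quadFormPlus m F))) :
    OL (Cfsg.POmega F (Cfsg.quadFormPlus m F)) := by
  classical
  obtain ⟨p, f, hp, hf, hF⟩ := exists_pf F
  have := Fact.mk hp
  haveI : Finite (Cfsg.isometryGroup F (Cfsg.quadFormPlus m F)) := inferInstance
  haveI : Finite (Cfsg.POmega F (Cfsg.quadFormPlus m F)) := inferInstance
  have h1 := Cfsg.Agent.S0817.result (F := F) p f hf hF m hm
  have h2 := card_out_of_aut hna h1
  have hN : Nat.card (Cfsg.Out (Cfsg.POmega F (Cfsg.quadFormPlus m F))) ≤ (if p = 2 then 6 else 24) * f := by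
    rw [h2]
    apply Nat.mul_le_mul_right
    split_ifs <;> norm_num
  have h3 : MD (Cfsg.POmega F (Cfsg.quadFormPlus m F)) (Fintype.card F ^ 4) := by
    rw [← OrthForms.coe_plusForm]
    intro χ hχ
    have hG : Good (OrthForms.plusForm m F) := by
      apply good_of_finite (OrthForms.nondeg_plusForm m F)
      rw [Module.finrank_fintype_fun_eq_card, Fintype.card_sum, Fintype.card_fin]
      omega
    have h4 := Cfsg.Agent.H677.OmegaIrr.charDegree_ge hG (MulEquiv.refl _) χ (ne_one hχ)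
    refine le_trans ?_ h4
    rw [Nat.card_eq_fintype_card]
    refine Nat.pow_le_pow_right Fintype.card_pos ?_
    rw [Fintype.card_sum, Fintype.card_fin]
    omega
  refine h3.ol ?_
  rw [hF]
  exact arith_orth hp.two_le hf le_rfl hN

/-- `PΩ⁻_{2m}(q)`. -/
theorem pomega_minus {m : ℕ} (hm : 4 ≤ m) (a b : F)
    (hab : ∀ z₁ z₂ : F, z₁ ^ 2 + a * z₁ * z₂ + b * z₂ ^ 2 = 0 → z₁ = 0 ∧ z₂ = 0)
    (hs : IsSimpleGroup (Cfsg.POmega F (Cfsg.quadFormMinus (m - 1) F a b)))
    (hna : ¬ IsMulCommutative (Cfsg.POmega F (Cfsg.quadFormMinus (m - 1) F a b))) :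
    OL (Cfsg.POmega F (Cfsg.quadFormMinus (m - 1) F a b)) := by
  classical
  obtain ⟨p, f, hp, hf, hF⟩ := exists_pf F
  have := Fact.mk hp
  haveI : Finite (Cfsg.isometryGroup F (Cfsg.quadFormMinus (m - 1) F a b)) := inferInstance
  haveI : Finite (Cfsg.POmega F (Cfsg.quadFormMinus (m - 1) F a b)) := inferInstance
  have h1 := Cfsg.Agent.S0818.result (F := F) p f hf hF m hm a b hab
  have h2 := card_out_of_aut hna h1
  have hN : Nat.card (Cfsg.Out (Cfsg.POmega F (Cfsg.quadFormMinus (m - 1) F a b))) ≤ (if p = 2 then 6 else 24) * f := by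
    rw [h2]
    apply Nat.mul_le_mul_right
    split_ifs <;> norm_num
  have h3 : MD (Cfsg.POmega F (Cfsg.quadFormMinus (m - 1) F a b)) (Fintype.card F ^ 4) := by
    rw [← OrthForms.coe_minusForm]
    intro χ hχ
    have hG : Good (OrthForms.minusForm (m - 1) F a b) := by
      apply good_of_finite (OrthForms.nondeg_minusForm (m - 1) F a b hab)
      rw [Module.finrank_fintype_fun_eq_card, Fintype.card_sum, Fintype.card_sum, Fintype.card_fin, Fintype.card_fin]
      omega
    have h4 := Cfsg.Agent.H677.OmegaIrr.charDegree_ge hG (MulEquiv.refl _) χ (ne_one hχ)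
    refine le_trans ?_ h4
    rw [Nat.card_eq_fintype_card]
    refine Nat.pow_le_pow_right Fintype.card_pos ?_
    rw [Fintype.card_sum, Fintype.card_sum, Fintype.card_fin, Fintype.card_fin]
    omega
  refine h3.ol ?_
  rw [hF]
  exact arith_orth hp.two_le hf le_rfl hN

end orth

end Cfsg.Agent.H685.OutLinCl
end

-- part: H404/Avg/OutPslTwo
section
/-!
# `|Out X| < χ(1)` for `X = PSL(2, q)`
-/

set_option autoImplicit false

namespace Cfsg.Agent.H404.Avg

open Cfsg Matrix
open Cfsg.Agent.H934.OutB Cfsg.Agent.H934.OutCl Cfsg.Agent.H954.OutDeg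

universe u

theorem two_mul_lt_pow {f : ℕ} (h : 3 ≤ f) : 4 * f + 1 < 3 ^ f := by
  obtain ⟨k, rfl⟩ : ∃ k, f = k + 3 := ⟨f - 3, by omega⟩
  induction k with
  | zero => norm_num
  | succ n ih =>
    have h1 := ih (by omega)
    rw [show n + 1 + 3 = (n + 3) + 1 by ring, pow_succ]
    omega

theorem lt_two_pow_sub {f : ℕ} (h : 2 ≤ f) : f < 2 ^ f - 1 := by
  obtain ⟨k, rfl⟩ : ∃ k, f = k + 2 := ⟨f - 2, by omega⟩
  induction k with
  | zero => norm_num
  | succ n ih =>
    have h1 := ih (by omega)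
    rw [show n + 1 + 2 = (n + 2) + 1 by ring, pow_succ]
    omega

theorem ol_psl_two {F : Type u} [Field F] [Fintype F]
    [hs : IsSimpleGroup (ProjectiveSpecialLinearGroup (Fin 2) F)]
    (hna : ¬ IsMulCommutative (ProjectiveSpecialLinearGroup (Fin 2) F)) (h4 : 4 ≤ Fintype.card F) :
    OL (ProjectiveSpecialLinearGroup (Fin 2) F) := by
  classical
  obtain ⟨p, f, hp, hf, hF⟩ := exists_pf F
  have := Fact.mk hp
  have := finite_psl (F := F) 2
  have h1 := Cfsg.Agent.S0813.result (F := F) p f hf hF 2 (by omega) (fun _ => by rw [← hF]; exact h4)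
  rw [if_pos rfl, card_pgl (by omega), ← mul_assoc, one_mul] at h1
  have h2 := card_out_of_aut hna h1
  have hup : QuotientGroup.mk' (Subgroup.center (_root_.Matrix.SpecialLinearGroup (Fin 2) F))
      (Cfsg.Agent.H934.HeisChev.up (1 : F)) ≠ 1 := by
    intro h
    have h2 := (QuotientGroup.eq_one_iff _).1 h
    rw [Subgroup.mem_center_iff] at h2
    have h3 := congrArg (fun A : Matrix.SpecialLinearGroup (Fin 2) F => (A : Matrix (Fin 2) (Fin 2) F) 0 0)
      (h2 ⟨!![1, 0; 1, 1], by rw [Matrix.det_fin_two_of]; ring⟩)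
    have h4 : ((!![(1 : F), 0; 1, 1] * !![(1 : F), 1; 0, 1] : Matrix (Fin 2) (Fin 2) F)) 0 0 =
      ((!![(1 : F), 1; 0, 1] * !![(1 : F), 0; 1, 1] : Matrix (Fin 2) (Fin 2) F)) 0 0 := h3
    rw [Matrix.mul_fin_two, Matrix.mul_fin_two] at h4
    simp at h4
  rcases hp.eq_two_or_odd with rfl | hodd
  · -- even characteristic
    have hf2 : 2 ≤ f := by
      by_contra h0
      have : f = 1 := by omega
      subst this
      rw [hF] at h4
      norm_num at h4
    have h5 : Nat.gcd 2 (Fintype.card F - 1) = 1 := by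
      rw [hF]
      have h6 : Odd (2 ^ f - 1) := by
        obtain ⟨k, rfl⟩ : ∃ k, f = k + 1 := ⟨f - 1, by omega⟩
        have : 0 < 2 ^ k := by positivity
        rw [pow_succ]
        exact ⟨2 ^ k - 1, by omega⟩
      exact (Nat.coprime_two_left.2 h6)
    have hchar : CharP F 2 := by
      obtain ⟨r, hr⟩ := CharP.exists F
      have hrp : r.Prime := (CharP.char_is_prime_or_zero F r).resolve_right (CharP.char_ne_zero_of_finite F r)
      have hd : r ∣ 2 ^ f := by
        rw [← hF]
        exact (CharP.cast_eq_zero_iff F r _).1 (Nat.cast_card_eq_zero F)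
      have : r = 2 := (Nat.prime_dvd_prime_iff_eq hrp Nat.prime_two).1 (hrp.dvd_of_dvd_pow hd)
      rwa [this] at hr
    refine (md_param (X := ProjectiveSpecialLinearGroup (Fin 2) F) (fun t : F =>
      QuotientGroup.mk' (Subgroup.center (_root_.Matrix.SpecialLinearGroup (Fin 2) F))
        (Cfsg.Agent.H934.HeisChev.up t)) ?_ hup ?_).ol ?_
    · intro s t
      rw [← map_mul]
      congr 1
      apply Subtype.ext
      show !![1, s + t; 0, 1] = !![1, s; 0, 1] * !![1, t; 0, 1]
      rw [Matrix.mul_fin_two]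
      simp [add_comm]
    · intro c hc
      obtain ⟨d, hd⟩ : ∃ d : F, d ^ 2 = c := by
        have h6 := (PerfectRing.bijective_frobenius (R := F) (p := 2)).2 c
        obtain ⟨d, hd⟩ := h6
        exact ⟨d, hd⟩
      have hd0 : d ≠ 0 := by
        rintro rfl
        apply hc
        rw [← hd]
        ring
      refine ⟨QuotientGroup.mk' _ (Cfsg.Agent.H934.HeisChev.dg d hd0), ?_⟩
      rw [mul_inv_eq_iff_eq_mul, ← map_mul, ← map_mul, Cfsg.Agent.H934.HeisChev.dg_up, hd, mul_one]
    · rw [h2, h5, mul_one, hF]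
      exact lt_two_pow_sub hf2
  · -- odd characteristic
    have hp3 : 3 ≤ p := by
      have := hp.two_le
      rcases this.eq_or_lt with h | h
      · subst h; simp at hodd
      · omega
    have h5 : Nat.gcd 2 (Fintype.card F - 1) ≤ 2 := Nat.gcd_le_left _ (by omega)
    have hout : Nat.card (Cfsg.Out (ProjectiveSpecialLinearGroup (Fin 2) F)) ≤ 2 * f := by
      rw [h2]
      nlinarith only [h5]
    have hmd := md_half_SL (X := ProjectiveSpecialLinearGroup (Fin 2) F)
      (QuotientGroup.mk' (Subgroup.center (_root_.Matrix.SpecialLinearGroup (Fin 2) F))) ⟨1, hup⟩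
    rcases Nat.lt_or_ge f 3 with hf3 | hf3
    · rcases Nat.lt_or_ge f 2 with hf2 | hf2
      · refine (md_three hna).ol ?_
        have : f = 1 := by omega
        subst this
        omega
      · have hf' : f = 2 := by omega
        subst hf'
        rcases hp3.eq_or_lt with h3 | h3
        · subst h3
          intro χ hχ
          obtain ⟨hd, -⟩ := Cfsg.Agent.H727.PslSq.psl_degrees (F := F) (h := 4) (by rw [hF]; norm_num)
            le_rfl (by decide)
          have h6 := hd (charDegree (χ : ProjectiveSpecialLinearGroup (Fin 2) F → ℂ))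
            (Cfsg.Agent.H727.DegCount.cnt_pos χ (Cfsg.Agent.Blocks.Basic.irr_one_eq_charDegree χ.2))
          have h7 : 5 ≤ charDegree (χ : ProjectiveSpecialLinearGroup (Fin 2) F → ℂ) := by
            simp only [Finset.mem_insert, Finset.mem_singleton] at h6
            rcases h6 with h | h | h | h | h
            · exact absurd h hχ
            all_goals omega
          omega
        · refine hmd.ol ?_
          rw [hF]
          have h6 : 5 ≤ p := by
            by_contra h0
            have : p = 4 := by omega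
            subst this
            norm_num at hp
          have h7 : 25 ≤ p ^ 2 := by nlinarith only [h6]
          omega
    · refine hmd.ol ?_
      rw [hF]
      have h6 := two_mul_lt_pow hf3
      have h7 : 3 ^ f ≤ p ^ f := Nat.pow_le_pow_left hp3 f
      omega

end Cfsg.Agent.H404.Avg
end

-- part: H954/OutAllL
section
/-!
# `|Out G| < χ(1)` for every known simple group (helper954, for S4830 and S4831)
-/

set_option autoImplicit false

namespace Cfsg.Agent.H954.OutAllL

open Cfsg Cfsg.Agent.H954.OutDeg Cfsg.Agent.H954.OutLinB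

universe u v

variable {G : Type u} [Group G]

theorem ol_alternating' [Finite G] [IsSimpleGroup G] (hna : ¬ IsMulCommutative G) (h : Cfsg.IsAlternating G) :
    OL G := by
  obtain ⟨n, hn, ⟨e⟩⟩ := h
  rcases eq_or_ne n 6 with rfl | h6
  · have : Fact (Nat.Prime 3) := ⟨by norm_num⟩
    have : Fintype (GaloisField 3 2) := Fintype.ofFinite _
    have hF : Fintype.card (GaloisField 3 2) = 9 := by
      rw [← Nat.card_eq_fintype_card, GaloisField.card 3 2 (by norm_num)]
      norm_num
    obtain ⟨e'⟩ := Cfsg.Agent.S0254.result hF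
    have e2 := e.trans e'.symm
    have := simple_of e2
    have h1 := Cfsg.Agent.H404.Avg.ol_psl_two (F := GaloisField 3 2) (not_comm_of hna e2) (by rw [hF]; norm_num)
    exact h1.congr e2.symm
  · exact ol_alternating hna hn h6 e

/-- **`|Out G| < χ(1)`** for every nonlinear irreducible character `χ` of a nonabelian known simple group `G`. -/
theorem ol [Finite G] [IsSimpleGroup G] (hna : ¬ IsMulCommutative G) (h : Cfsg.IsKnownSimple' G) : OL G := by
  rcases h with h | h | h | h | h | h | h | h | h | h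
  · exfalso
    apply hna
    have : Fact (Nat.card G).Prime := ⟨h⟩
    have : IsCyclic G := isCyclic_of_prime_card rfl
    infer_instance
  · exact ol_alternating' hna h
  · obtain ⟨F, _, _, n, hn, h4, ⟨e⟩⟩ := h
    rcases eq_or_lt_of_le hn with h2 | h2
    · subst h2
      have := simple_of e
      exact (Cfsg.Agent.H404.Avg.ol_psl_two (F := F) (not_comm_of hna e) (h4 rfl)).congr e.symm
    · exact (Cfsg.Agent.H685.OutLinCl.psl h2 (simple_of e) (not_comm_of hna e)).congr e.symm
  · obtain ⟨F, _, _, m, hm, h3, ⟨e⟩⟩ := h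
    exact (Cfsg.Agent.H685.OutLinCl.psp hm h3 (simple_of e) (not_comm_of hna e)).congr e.symm
  · obtain ⟨F, _, _, n, q, hF, hn, h32, ⟨e⟩⟩ := h
    exact (Cfsg.Agent.H685.OutLinCl.psu hF hn h32 (simple_of e) (not_comm_of hna e)).congr e.symm
  · obtain ⟨F, _, _, m, hm, ho, ⟨e⟩⟩ := h
    exact (Cfsg.Agent.H685.OutLinCl.pomega_odd hm ho (simple_of e) (not_comm_of hna e)).congr e.symm
  · obtain ⟨F, _, _, m, hm, ⟨e⟩⟩ := h
    exact (Cfsg.Agent.H685.OutLinCl.pomega_plus hm (simple_of e) (not_comm_of hna e)).congr e.symm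
  · obtain ⟨F, _, _, m, a, b, hm, hab, ⟨e⟩⟩ := h
    exact (Cfsg.Agent.H685.OutLinCl.pomega_minus hm a b hab (simple_of e) (not_comm_of hna e)).congr e.symm
  · rcases h with h | h | h | h | h | h | h | h | h | h | h
    · exact ol_g2 hna h
    · exact ol_f4 h
    · exact ol_e6 h
    · exact ol_e7 hna h
    · exact ol_e8 hna h
    · exact ol_2e6 h
    · exact ol_3d4 h
    · exact ol_sz h
    · exact ol_ree h
    · exact ol_2f4 h
    · exact ol_tits hna h
  · exact ol_sporadic hna h

end Cfsg.Agent.H954.OutAllL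
end

private theorem dce_ca890fd9ab63 : _root_.True := by
  try have : _root_.True := by simp only [_root_.Cfsg.POmega.congr_simp]
  exact _root_.True.intro
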