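import Cfsg.Agent.H954.TSing5
import Cfsg.Agent.H955.QElt
import Cfsg.Agent.S0750
set_option linter.all false

/-!
# The number of totally singular `m`-spaces (helper954)

* `card_dvd` : it divides `|O(V)|` if non-zero (Witt);
* `exists_maximal` : an isometry `T`, `T ^ r = 1`, such that `r ∤ |O(C_V(T))|`;
* `ord_le` : if `r` divides the number of totally singular `m`-spaces and every isometry `T` with `T ^ r = 1`
  fixes one of them then `ord_r(q) ≤ m`.
-/

set_option autoImplicit false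

namespace Cfsg.Agent.H954.TSing

open Module QuadraticMap Cfsg.Agent.LieClassical.OrthCore

variable {F V : Type*} [Field F] [AddCommGroup V] [Module F V] {Q : QuadraticForm F V}

theorem fx_coe (T : V ≃ₗ[F] V) : H951.fx (T : Module.End F V) = H955.fixS T := by
  ext v
  rw [H951.mem_fx, H955.mem_fixS]; rfl

theorem cm_coe (T : V ≃ₗ[F] V) : H951.cm (T : Module.End F V) = H955.comS T := by
  ext v
  rw [H951.mem_cm, H955.mem_comS]; rfl

theorem coe_pow (T : V ≃ₗ[F] V) (n : ℕ) : ((T ^ n : V ≃ₗ[F] V) : Module.End F V) = (T : Module.End F V) ^ n := by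
  induction n with
  | zero => rfl
  | succ n ih =>
    rw [pow_succ, pow_succ, ← ih]
    rfl

theorem coe_pow_eq_one {T : V ≃ₗ[F] V} {n : ℕ} (h : T ^ n = 1) : (T : Module.End F V) ^ n = 1 := by
  rw [← coe_pow, h]; rfl

/-- the totally singular subspaces of dimension `m` -/
def TSm (Q : QuadraticForm F V) (m : ℕ) : Set (Submodule F V) := {W | finrank F W = m ∧ ∀ w ∈ W, Q w = 0}

theorem card_dvd [Finite F] [FiniteDimensional F V] (hQ : Nondeg Q) {m : ℕ} (hne : (TSm Q m).Nonempty) :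
    Nat.card (TSm Q m) ∣ Nat.card (O Q) := by
  obtain ⟨W₀, hW₀⟩ := hne
  let f : O Q → TSm Q m := fun g => ⟨W₀.map (g.1 : V →ₗ[F] V), by
    rw [← hW₀.1]; exact LinearEquiv.finrank_map_eq g.1 W₀, by
    rintro _ ⟨w, hw, rfl⟩
    exact (g.2 w).trans (hW₀.2 w hw)⟩
  have hf : Function.Surjective f := by
    rintro ⟨W, hW⟩
    obtain ⟨φ⟩ : Nonempty (W₀ ≃ₗ[F] W) := FiniteDimensional.nonempty_linearEquiv_of_finrank_eq (by rw [hW₀.1, hW.1])
    obtain ⟨g, hg, hgφ⟩ := Cfsg.Agent.S0750.result Q (H955.nondegenerate_of_nondeg hQ) W₀ W φ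
      (fun w => by rw [hW₀.2 w w.2, hW.2 _ (φ w).2])
    refine ⟨⟨g, hg⟩, Subtype.ext ?_⟩
    show W₀.map (g : V →ₗ[F] V) = W
    apply Submodule.eq_of_le_of_finrank_eq
    · rintro _ ⟨w, hw, rfl⟩
      have := hgφ ⟨w, hw⟩
      show g w ∈ W
      rw [this]
      exact (φ ⟨w, hw⟩).2
    · rw [hW.1, ← hW₀.1]; exact LinearEquiv.finrank_map_eq g W₀
  -- all fibres have the same size
  let S : Subgroup (O Q) :=
    { carrier := {g | W₀.map (g.1 : V →ₗ[F] V) = W₀}
      mul_mem' := by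
        intro a b ha hb
        have ha' : W₀.map (a.1 : V →ₗ[F] V) = W₀ := ha
        have hb' : W₀.map (b.1 : V →ₗ[F] V) = W₀ := hb
        show W₀.map ((a.1 : V →ₗ[F] V) ∘ₗ (b.1 : V →ₗ[F] V)) = W₀
        rw [Submodule.map_comp, hb', ha']
      one_mem' := Submodule.map_id W₀
      inv_mem' := by
        intro a ha
        have ha' : W₀.map (a.1 : V →ₗ[F] V) = W₀ := ha
        show W₀.map ((a.1.symm : V ≃ₗ[F] V) : V →ₗ[F] V) = W₀
        conv_lhs => rw [← ha']
        rw [← Submodule.map_comp]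
        have : (a.1.symm : V →ₗ[F] V) ∘ₗ (a.1 : V →ₗ[F] V) = LinearMap.id := by ext v; simp
        rw [this, Submodule.map_id] }
  have h1 : Nat.card (O Q ⧸ S) = Nat.card (TSm Q m) := by
    refine Nat.card_congr (Equiv.ofBijective (Quotient.lift f ?_) ⟨?_, ?_⟩)
    · intro a b hab
      have h2 : a⁻¹ * b ∈ S := QuotientGroup.leftRel_apply.1 hab
      have h3 : W₀.map ((a⁻¹ * b).1 : V →ₗ[F] V) = W₀ := h2
      apply Subtype.ext
      show W₀.map (a.1 : V →ₗ[F] V) = W₀.map (b.1 : V →ₗ[F] V)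
      conv_lhs => rw [← h3]
      rw [← Submodule.map_comp]
      congr 1
      ext v
      show a.1 ((a⁻¹ * b).1 v) = b.1 v
      have h4 : a.1 * (a⁻¹ * b).1 = b.1 := by
        have : a * (a⁻¹ * b) = b := mul_inv_cancel_left a b
        exact congrArg Subtype.val this
      rw [← h4]; rfl
    · intro a b
      refine Quotient.inductionOn₂ a b fun a b hab => ?_
      have hab' : W₀.map (a.1 : V →ₗ[F] V) = W₀.map (b.1 : V →ₗ[F] V) := congrArg Subtype.val hab
      apply Quotient.sound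
      apply QuotientGroup.leftRel_apply.2
      show W₀.map ((a⁻¹ * b).1 : V →ₗ[F] V) = W₀
      have h5 : ((a⁻¹ * b).1 : V →ₗ[F] V) = ((a.1.symm : V ≃ₗ[F] V) : V →ₗ[F] V) ∘ₗ (b.1 : V →ₗ[F] V) := rfl
      rw [h5, Submodule.map_comp, ← hab', ← Submodule.map_comp]
      have : (a.1.symm : V →ₗ[F] V) ∘ₗ (a.1 : V →ₗ[F] V) = LinearMap.id := by ext v; simp
      rw [this, Submodule.map_id]
    · intro W
      obtain ⟨g, hg⟩ := hf W
      exact ⟨Quotient.mk _ g, hg⟩
  rw [← h1]
  exact Subgroup.card_quotient_dvd_card S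

/-- number of totally singular subspaces in a subspace. -/
theorem card_TSm_res (U : Submodule F V) (m : ℕ) :
    Nat.card (TSm (H955.res Q U) m) = Nat.card {W : Submodule F V // W ∈ TSm Q m ∧ W ≤ U} := by
  refine Nat.card_congr
    { toFun := fun W => ⟨W.1.map U.subtype, ⟨?_, ?_⟩, ?_⟩
      invFun := fun W => ⟨W.1.comap U.subtype, ?_, ?_⟩
      left_inv := fun W => ?_
      right_inv := fun W => ?_ }
  · exact (Submodule.equivMapOfInjective U.subtype U.injective_subtype _).finrank_eq.symm.trans W.2.1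
  · rintro _ ⟨w, hw, rfl⟩
    exact W.2.2 w hw
  · rintro _ ⟨w, -, rfl⟩
    exact w.2
  · rw [(Submodule.comapSubtypeEquivOfLe W.2.2).finrank_eq]; exact W.2.1.1
  · intro w hw
    exact W.2.1.2 _ hw
  · apply Subtype.ext
    exact Submodule.comap_map_eq_of_injective U.injective_subtype _
  · apply Subtype.ext
    show (W.1.comap U.subtype).map U.subtype = W.1
    rw [Submodule.map_comap_subtype]
    exact inf_eq_right.2 W.2.2

theorem exists_maximal [Finite F] [FiniteDimensional F V] (hQ : Nondeg Q) {r : ℕ} [hrp : Fact r.Prime]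
    (hr : (r : F) ≠ 0) : ∃ T ∈ O Q, T ^ r = 1 ∧ ¬ r ∣ Nat.card (O (H955.res Q (H955.fixS T))) := by
  classical
  have hP : ∃ n, ∃ T ∈ O Q, T ^ r = 1 ∧ finrank F (H955.fixS T) = n :=
    ⟨_, 1, one_mem _, one_pow r, rfl⟩
  obtain ⟨T, hT, hTr, hTn⟩ := Nat.find_spec hP
  refine ⟨T, hT, hTr, fun hdvd => ?_⟩
  have hn := H955.nondeg_comS hQ hT hr hTr
  rw [← H955.perp_comS hQ hT] at hdvd
  have hfinV : Finite V := Module.finite_of_finite F
  have hfinL : Finite (H955.perp Q (H955.comS T) ≃ₗ[F] H955.perp Q (H955.comS T)) :=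
    Finite.of_injective (fun g => (g : _ → _)) DFunLike.coe_injective
  obtain ⟨⟨y, hy⟩, hyo⟩ := exists_prime_orderOf_dvd_card' r hdvd
  have hyr : y ^ r = 1 := by
    have := pow_orderOf_eq_one (⟨y, hy⟩ : O (H955.res Q (H955.perp Q (H955.comS T))))
    rw [hyo] at this
    exact congrArg Subtype.val this
  have hy1 : y ≠ 1 := by
    rintro rfl
    have h1 : orderOf (1 : O (H955.res Q (H955.perp Q (H955.comS T)))) = 1 := orderOf_one
    have h3 : (⟨1, hy⟩ : O (H955.res Q (H955.perp Q (H955.comS T)))) = 1 := rfl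
    rw [h3, h1] at hyo
    exact hrp.out.one_lt.ne hyo
  have hI : ∀ w ∈ H955.comS T, T w ∈ H955.comS T := H955.inv_comS T
  have hRr : (H955.resT T (H955.comS T) hI) ^ r = 1 := H955.resT_pow_eq_one hTr
  have hRO : H955.resT T (H955.comS T) hI ∈ O (H955.res Q (H955.comS T)) := fun w => hT (w : V)
  have hRe : ∀ a, H955.resT T (H955.comS T) hI a = a → T (a : V) = (a : V) := fun a h => congrArg Subtype.val h
  generalize H955.resT T (H955.comS T) hI = R at hRr hRO hRe
  let T' := H955.glue hn (R, y)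
  have hT' : T' ∈ O Q := (H955.glue_mem_O hn).2 ⟨hRO, hy⟩
  have hT'r : T' ^ r = 1 := by
    show (H955.glue hn (R, y)) ^ r = 1
    rw [← map_pow]
    have : ((R, y) :
        (H955.comS T ≃ₗ[F] H955.comS T) × (H955.perp Q (H955.comS T) ≃ₗ[F] H955.perp Q (H955.comS T))) ^ r = 1 := by
      rw [Prod.pow_mk, hRr, hyr]
      rfl
    rw [this, map_one]
  have hlt : H955.fixS T' < H955.fixS T := by
    refine lt_of_le_of_ne ?_ ?_
    · intro v hv
      obtain ⟨a, b, rfl⟩ := H955.exists_add_perp hn v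
      obtain ⟨h5, h6⟩ := (H955.glue_fix hn).1 (H955.mem_fixS.1 hv)
      have h7 : (a : V) = 0 := H955.free_comS hr hTr a a.2 (hRe a h5)
      rw [h7, zero_add, ← H955.perp_comS hQ hT]
      exact b.2
    · intro heq
      apply hy1
      ext b
      have hb : (b : V) ∈ H955.fixS T' := by
        rw [heq, ← H955.perp_comS hQ hT]; exact b.2
      have h8 := H955.mem_fixS.1 hb
      have h9 : T' (b : V) = (y b : V) := H955.glue_right hn _ b
      rw [h9] at h8
      exact h8
  have hlt' := Submodule.finrank_lt_finrank_of_lt hlt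
  have := Nat.find_min' hP ⟨T', hT', hT'r, rfl⟩
  omega

/-- **the hypothesis on `r`**. -/
theorem ord_le [Fintype F] [FiniteDimensional F V] (hQ : Nondeg Q) {r : ℕ} [hrp : Fact r.Prime]
    (hr : (r : F) ≠ 0) {m : ℕ} (hdvd : r ∣ Nat.card (TSm Q m))
    (hall : ∀ T ∈ O Q, T ^ r = 1 → ∃ W ∈ TSm Q m, ∀ w ∈ W, T w ∈ W) :
    orderOf (Fintype.card F : ZMod r) ≤ m := by
  by_contra hlt
  push Not at hlt
  obtain ⟨T, hT, hTr, hnd⟩ := exists_maximal hQ hr
  have hle : ∀ W ∈ TSm Q m, (∀ w ∈ W, T w ∈ W) → W ≤ H955.fixS T := by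
    intro W hW hWT
    have hx := coe_pow_eq_one hTr
    have hWi : H951.Inv (T : Module.End F V) W := hWT
    have h1 := H951.ord_dvd_finrank hx (hWi.inf H951.inv_cm) (H951.inf_fx_of_le_cm hr hx inf_le_right)
    have h2 : finrank F ↥(W ⊓ H951.cm (T : Module.End F V)) = 0 := by
      apply Nat.eq_zero_of_dvd_of_lt h1
      refine lt_of_le_of_lt (Submodule.finrank_mono inf_le_left) ?_
      rw [hW.1]; exact hlt
    have h3 := H951.inf_fx_sup_inf_cm hr hx hWi
    rw [Submodule.finrank_eq_zero.1 h2, sup_bot_eq, fx_coe] at h3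
    rw [← h3]; exact inf_le_right
  have hne : (TSm (H955.res Q (H955.fixS T)) m).Nonempty := by
    obtain ⟨W, hW, hWT⟩ := hall T hT hTr
    have hWle := hle W hW hWT
    refine ⟨W.comap (H955.fixS T).subtype, ?_, ?_⟩
    · rw [(Submodule.comapSubtypeEquivOfLe hWle).finrank_eq]; exact hW.1
    · exact fun w hw => hW.2 _ hw
  have hnfix : Nondeg (H955.res Q (H955.fixS T)) := by
    have := nondeg_fx (x := (T : Module.End F V)) hQ (fun v => hT v) hr (coe_pow_eq_one hTr)
    rwa [fx_coe] at this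
  have h1 := card_dvd hnfix hne
  have h2 : ¬ r ∣ Nat.card (TSm (H955.res Q (H955.fixS T)) m) := fun h => hnd (h.trans h1)
  apply h2
  rw [card_TSm_res]
  have hfinV : Finite V := Module.finite_of_finite F
  have hfinS : Finite (Submodule F V) := Finite.of_injective (fun W => (W : Set V)) SetLike.coe_injective
  have h3 : ∀ (n : ℕ) (W : Submodule F V), (((Submodule.orderIsoMapComap T).toEquiv : Equiv.Perm _) ^ n) W
      = W.map ((T ^ n : V ≃ₗ[F] V) : V →ₗ[F] V) := by
    intro n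
    induction n with
    | zero => intro W; exact (Submodule.map_id W).symm
    | succ n ih =>
      intro W
      rw [pow_succ, Equiv.Perm.mul_apply, ih]
      show (W.map (T : V →ₗ[F] V)).map ((T ^ n : V ≃ₗ[F] V) : V →ₗ[F] V) = _
      rw [← Submodule.map_comp]
      rfl
  have h4 := H955.card_modEq_fix ((Submodule.orderIsoMapComap T).toEquiv : Equiv.Perm (Submodule F V)) (r := r) (by
    ext1 W
    rw [h3, hTr]
    exact Submodule.map_id W) (fun W => W ∈ TSm Q m) (by
    intro W hW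
    refine ⟨?_, ?_⟩
    · rw [← hW.1]; exact LinearEquiv.finrank_map_eq T W
    · rintro _ ⟨w, hw, rfl⟩
      exact (hT w).trans (hW.2 w hw))
  have h5 : Nat.card {W : Submodule F V // W ∈ TSm Q m ∧ (Submodule.orderIsoMapComap T).toEquiv W = W} =
      Nat.card {W : Submodule F V // W ∈ TSm Q m ∧ W ≤ H955.fixS T} := by
    refine Nat.card_congr (Equiv.subtypeEquivRight fun W => ?_)
    refine and_congr_right fun hW => ⟨fun h => hle W hW fun w hw => ?_, fun h => ?_⟩
    · rw [← h]; exact ⟨w, hw, rfl⟩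
    · show W.map (T : V →ₗ[F] V) = W
      exact H955.map_eq_of_le T W fun w hw => by rw [H955.mem_fixS.1 (h hw)]; exact hw
  rw [h5] at h4
  have h6 : Nat.card {W : Submodule F V // W ∈ TSm Q m} = Nat.card (TSm Q m) := rfl
  rw [h6] at h4
  exact (Nat.modEq_zero_iff_dvd.1 (h4.symm.trans (Nat.modEq_zero_iff_dvd.2 hdvd)))

end Cfsg.Agent.H954.TSing
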